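import Cfsg.Agent.Lib.InvolTwist.Steps
import Cfsg.Agent.Lib.F4Invol.Cert

/-!
A checkable certificate for the descent of fixed involutions: a list of states, each a set of roots
and a set of nonzero coordinates as bit masks, with a step pointing to later states.
-/

set_option autoImplicit false
set_option linter.unusedSectionVars false

namespace CfsgLib.InvolTwist

open Cfsg.Lie CfsgLib.ChevStr
open CfsgLib.F4Invol (bset pw erase subB mem_bset testBit_pw bset_erase
  subB_spec oddTerms OddStep Closed2)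
open scoped MatrixGroups

/-- Tables: sums of roots shifted by one, negatives, the root map, the permutations of the frame
changes, and the positive roots. -/
structure Tab where
  N : ℕ
  sum : List ℕ
  neg : List ℕ
  rho : List ℕ
  img : List ℕ
  pos : ℕ

namespace Tab

/-- The sum of two roots, shifted by one. -/
def sm (T : Tab) (r s : ℕ) : ℕ := (T.sum.getD r 0 >>> (8 * s)) &&& 255

/-- The negative of a root. -/
def ng (T : Tab) (r : ℕ) : ℕ := T.neg.getD r 0

/-- The image of a root. -/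
def rt (T : Tab) (r : ℕ) : ℕ := T.rho.getD r 0

/-- The image of a root under a frame change. -/
def im (T : Tab) (i r : ℕ) : ℕ := (T.img.getD i 0 >>> (8 * r)) &&& 255

/-- The roots of a mask. -/
def bits (T : Tab) (P : ℕ) : List ℕ := (List.range T.N).filter fun r => P.testBit r

/-- `x_r` normalises the subgroup of `S`. -/
def stepB (T : Tab) (r S : ℕ) : Bool :=
  Nat.blt r T.N && Nat.blt S (pw T.N) && !S.testBit (T.ng r) &&
    (T.bits S).all fun s => Nat.beq (T.sm r s) 0 || S.testBit (T.sm r s - 1)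

/-- `S` is a closed set of positive roots. -/
def closedB (T : Tab) (S : ℕ) : Bool :=
  Nat.blt S (pw T.N) && subB S T.pos && (T.bits S).all fun r => T.stepB r S

/-- `t` is a root of `P` that is not a sum inside it. -/
def topB (T : Tab) (P t : ℕ) : Bool :=
  T.closedB P && P.testBit t && T.closedB (erase P t) &&
    (T.bits P).all fun u => T.stepB u (erase P t)

/-- `P` is stable under the root map. -/
def stableB (T : Tab) (P : ℕ) : Bool :=
  Nat.blt P (pw T.N) && (T.bits P).all fun u => P.testBit (T.rt u)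

/-- The conditions for dropping an orbit. -/
def pairB (T : Tab) (P r : ℕ) : Bool :=
  T.stableB P && Nat.blt r T.N && T.pos.testBit (T.rt r) && P.testBit r &&
    T.closedB (erase P (T.rt r)) && T.stepB (T.rt r) (erase (erase P r) (T.rt r))

/-- The root produced at `x` by conjugation with the second root after the first. -/
def sm2 (T : Tab) (x y u : ℕ) : ℕ := bif Nat.beq (T.sm x u) 0 then 0 else T.sm y (T.sm x u - 1)

/-- The conditions of the relation between the orbits of `r` and `t`. -/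
def relB (T : Tab) (P r t : ℕ) : Bool :=
  let r' := T.rt r
  let t' := T.rt t
  let k := T.sm r t' - 1
  let P2 := erase (erase P r) r'
  let S := erase (erase P2 t) t'
  T.topB P t && T.topB P r' && T.topB P t' && decide [r, r', t, t'].Nodup && T.topB S k &&
  T.stepB r' P2 && T.stepB t (erase P2 t) &&
  ([r, r', t, t'].all fun u => T.stepB u S && T.stepB u (erase S k) &&
    (T.bits S).all fun v => !Nat.beq (T.sm u v) (k + 1)) &&
  Nat.beq (T.sm r r') 0 && Nat.beq (T.sm r t) 0 && Nat.beq (T.sm r' t') 0 &&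
  Nat.beq (T.sm t t') 0 && Nat.beq (T.sm r t') (k + 1) && Nat.beq (T.sm r' t) (k + 1)

/-- The four ways of killing: by one root, by a trace, by a norm, by the relation. -/
def kindB (T : Tab) (P k x r t : ℕ) : Bool :=
  let x' := T.rt x
  let ps := T.bits P
  match k with
  | 1 =>
    (!Nat.beq x' x || (Nat.beq (T.rt r) r && Nat.beq (T.rt t) t)) &&
    ps.all fun u => (Nat.beq (T.sm x u) (t + 1) == Nat.beq u r) &&
      (Nat.beq x' x || (!Nat.beq (T.sm x' u) (t + 1) && !Nat.beq (T.sm2 x x' u) (t + 1)))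
  | 2 =>
    !Nat.beq x' x && !Nat.beq (T.rt r) r && Nat.beq (T.rt t) t && T.topB P (T.rt r) &&
    T.stepB (T.rt r) (erase (erase P r) (T.rt r)) &&
    ps.all fun u => (Nat.beq (T.sm x u) (t + 1) == Nat.beq u r) &&
      (Nat.beq (T.sm x' u) (t + 1) == Nat.beq u (T.rt r)) && !Nat.beq (T.sm2 x x' u) (t + 1)
  | 3 =>
    !Nat.beq x' x && Nat.beq (T.rt r) r && Nat.beq (T.rt t) t &&
    ps.all fun u => !Nat.beq (T.sm x u) (t + 1) && !Nat.beq (T.sm x' u) (t + 1) &&
      (Nat.beq (T.sm2 x x' u) (t + 1) == Nat.beq u r)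
  | _ =>
    Nat.beq x' x && T.relB P r t && ps.all fun u => Nat.beq (T.sm x u) (t + 1) == Nat.beq u r

/-- The check of a killing step. -/
def killB (T : Tab) (P M k x r t P2 P' M' : ℕ) : Bool :=
  Nat.blt x T.N && T.pos.testBit x && T.stableB P && T.stableB P2 && subB P P2 && T.topB P2 t &&
  T.stepB x P2 && T.stepB (T.rt x) P2 && T.topB P r && M.testBit r &&
  (Nat.beq (T.rt t) t || T.pairB P2 t) && T.kindB P k x r t &&
  Nat.beq P' (erase (erase P2 t) (T.rt t)) && Nat.blt M' (pw T.N) &&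
  (T.bits M').all fun n => M.testBit n && T.topB P n && T.topB P2 n &&
    (T.bits P).all fun u => !Nat.beq (T.sm x u) (n + 1) && !Nat.beq (T.sm (T.rt x) u) (n + 1) &&
      !Nat.beq (T.sm2 x (T.rt x) u) (n + 1)

/-- The check of a contradiction step. -/
def contraB (T : Tab) (P M a b t : ℕ) : Bool :=
  let Q := erase (erase (erase P a) b) t
  T.closedB P && P.testBit a && P.testBit b && P.testBit t && M.testBit a && M.testBit b &&
  !Nat.beq a b && !Nat.beq a t && !Nat.beq b t && T.closedB Q &&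
  (T.bits P).all (fun u => T.stepB u Q) && T.stepB a (erase P a) && T.stepB b (erase (erase P a) b) &&
  (Nat.beq (T.sm a t) 0 || Q.testBit (T.sm a t - 1)) &&
  (Nat.beq (T.sm b t) 0 || Q.testBit (T.sm b t - 1)) && Nat.beq (T.sm a b) (t + 1)

/-- The image of a mask. -/
def imMask (T : Tab) (i P : ℕ) : ℕ := (T.bits P).foldl (fun acc r => acc ||| pw (T.im i r)) 0

end Tab

/-- A step of the descent. -/
inductive TStep where
  | empty
  | branch (r c₀ c₁ : ℕ)
  | kill (k x r t P2 c : ℕ)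
  | contra (a b t : ℕ)
  | move (w : List ℕ) (c : ℕ)
  | done (k : ℕ)

/-- A state with its step. -/
abbrev TNode := ℕ × ℕ × TStep

/-- The check of the state number `k`; `reps` are the final states and there are `m` frame changes. -/
def Tab.nodeB (T : Tab) (m : ℕ) (reps : List ℕ) (nodes : List TNode) (k : ℕ) : Bool :=
  let nd := nodes.getD k (0, 0, TStep.empty)
  let P := nd.1
  let M := nd.2.1
  match nd.2.2 with
  | .empty => Nat.beq P 0
  | .branch r c₀ c₁ =>
    let A := nodes.getD c₀ (0, 0, TStep.empty)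
    let B := nodes.getD c₁ (0, 0, TStep.empty)
    Nat.blt k c₀ && Nat.blt k c₁ && Nat.blt c₀ nodes.length && Nat.blt c₁ nodes.length &&
      T.pairB P r && Nat.beq A.1 (erase (erase P r) (T.rt r)) && subB A.2.1 M && Nat.beq B.1 P &&
      subB B.2.1 (M ||| pw r ||| pw (T.rt r))
  | .kill kk x r t P2 c =>
    let A := nodes.getD c (0, 0, TStep.empty)
    Nat.blt k c && Nat.blt c nodes.length && T.killB P M kk x r t P2 A.1 A.2.1
  | .contra a b t => T.contraB P M a b t
  | .move w c =>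
    let A := nodes.getD c (0, 0, TStep.empty)
    Nat.blt k c && Nat.blt c nodes.length && Nat.blt P (pw T.N) && subB M P &&
      w.all (fun i => Nat.blt i m) && Nat.beq A.1 (w.foldl (fun S i => T.imMask i S) P) &&
      subB A.2.1 (w.foldl (fun S i => T.imMask i S) M)
  | .done j => Nat.blt j reps.length && Nat.beq P (reps.getD j 0) && Nat.beq M P

/-- The tables agree with the datum and the root map. -/
def Tab.ok (D : ChevalleyDatum) (root : ℕ → ℕ) (T : Tab) : Bool :=
  Nat.beq T.N D.nroots && Nat.blt T.pos (pw T.N) &&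
  (List.range T.N).all fun r =>
    Nat.beq (T.ng r) (D.neg r) && Nat.beq (T.rt r) (root r) &&
    (!T.pos.testBit r || decide (D.IsPosRoot r)) && Nat.beq (T.sm r r) 0 &&
    (List.range T.N).all fun s =>
      Nat.beq s r || Nat.beq s (T.ng r) ||
        match oddTerms D r s with
        | [] => Nat.beq (T.sm r s) 0
        | [(k, _, 1, 1)] => Nat.beq (T.sm r s) (k + 1)
        | _ => false

variable {D : ChevalleyDatum} {F : Type*} [Field F] [CharP F 2] {C : ChevCore D F} {W : Twist C}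
  {T : Tab}

/-- The frame changes of the group. -/
structure Frames (W : Twist C) (T : Tab) (m : ℕ) : Prop where
  move : ∀ i, i < m → ∃ n ∈ W.G, (∀ r, r < D.nroots → T.im i r < D.nroots) ∧
    (∀ r, r < D.nroots → ∀ x : F, ∃ u, n * C.xGL r x * n⁻¹ = C.xGL (T.im i r) u) ∧
    ∀ r, r < D.nroots → ∀ x : F, ∃ u, n⁻¹ * C.xGL (T.im i r) x * n = C.xGL r u

section spec

variable (hT : T.ok D W.root = true)
include hT

theorem ok_N : T.N = D.nroots := by
  simp only [Tab.ok, Bool.and_eq_true] at hT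
  exact Nat.eq_of_beq_eq_true hT.1.1

theorem ok_root {r : ℕ} (hr : r < T.N) : T.ng r = D.neg r ∧ T.rt r = W.root r ∧
    (T.pos.testBit r = true → D.IsPosRoot r) := by
  simp only [Tab.ok, Bool.and_eq_true, List.all_eq_true, List.mem_range, Bool.or_eq_true,
    Bool.not_eq_true', decide_eq_true_eq] at hT
  obtain ⟨⟨⟨⟨h1, h2⟩, h3⟩, -⟩, -⟩ := hT.2 r hr
  exact ⟨Nat.eq_of_beq_eq_true h1, Nat.eq_of_beq_eq_true h2,
    fun h => h3.resolve_left (by simp [h])⟩

theorem ok_sums : Sums D T.sm := by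
  have hN := ok_N hT
  have h := hT
  simp only [Tab.ok, Bool.and_eq_true, List.all_eq_true, List.mem_range, Bool.or_eq_true] at h
  refine ⟨fun r hr => Nat.eq_of_beq_eq_true (h.2 r (hN ▸ hr)).1.2, fun r s hr hs hsr hsn => ?_⟩
  rcases (h.2 r (hN ▸ hr)).2 s (hN ▸ hs) with (h1 | h1) | h1
  · exact absurd (Nat.eq_of_beq_eq_true h1) hsr
  · exact absurd ((Nat.eq_of_beq_eq_true h1).trans (ok_root hT (hN ▸ hr)).1) hsn
  · split at h1
    · exact Or.inl ⟨Nat.eq_of_beq_eq_true h1, by assumption⟩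
    · exact Or.inr ⟨_, _, Nat.eq_of_beq_eq_true h1, by assumption⟩
    · exact absurd h1 Bool.false_ne_true

theorem mem_bits {P r : ℕ} (hP : P < pw T.N) : r ∈ T.bits P ↔ r ∈ bset P := by
  simp only [Tab.bits, List.mem_filter, List.mem_range, mem_bset, and_iff_right_iff_imp]
  intro h
  by_contra hr
  rw [Nat.testBit_eq_false_of_lt (lt_of_lt_of_le hP (by
    rw [pw, Nat.one_shiftLeft]; exact Nat.pow_le_pow_right (by norm_num) (by omega)))] at h
  exact Bool.false_ne_true h

theorem lt_of_mem {P r : ℕ} (hP : P < pw T.N) (hr : r ∈ bset P) : r < D.nroots := by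
  rw [← ok_N hT]
  exact List.mem_range.1 (List.mem_filter.1 ((mem_bits hT hP).2 hr)).1

theorem stepB_spec {r S : ℕ} (h : T.stepB r S = true) : r < D.nroots ∧ OddStep D r (bset S) := by
  simp only [Tab.stepB, Bool.and_eq_true, Bool.or_eq_true, Bool.not_eq_true', List.all_eq_true] at h
  obtain ⟨⟨⟨hr, hS⟩, hneg⟩, hall⟩ := h
  have hr' : r < T.N := Nat.le_of_ble_eq_true hr
  have hS' : S < pw T.N := Nat.le_of_ble_eq_true hS
  have hrn : r < D.nroots := ok_N hT ▸ hr'
  refine ⟨hrn, fun s hs => ⟨lt_of_mem hT hS' hs, fun e => ?_, fun hsr c hc => ?_⟩⟩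
  · rw [(ok_root hT hr').1, ← e, mem_bset.1 hs] at hneg
    exact Bool.noConfusion hneg
  · have hsn : s ≠ D.neg r := fun e => by
      rw [(ok_root hT hr').1, ← e, mem_bset.1 hs] at hneg
      exact Bool.noConfusion hneg
    rcases (ok_sums hT).terms r s hrn (lt_of_mem hT hS' hs) hsr hsn with ⟨-, he⟩ | ⟨k, z, hk, he⟩
    · rw [he] at hc; exact absurd hc List.not_mem_nil
    · rw [he, List.mem_singleton] at hc
      subst hc
      rcases hall s ((mem_bits hT hS').2 hs) with h | h
      · have := Nat.eq_of_beq_eq_true h; omega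
      · rw [hk, Nat.add_sub_cancel] at h; exact mem_bset.2 h

theorem closedB_spec {S : ℕ} (h : T.closedB S = true) : S < pw T.N ∧ Closed2 D (bset S) := by
  simp only [Tab.closedB, Bool.and_eq_true, List.all_eq_true] at h
  have hlt : S < pw T.N := Nat.le_of_ble_eq_true h.1.1
  refine ⟨hlt, fun r hr => (ok_root hT (ok_N hT ▸ lt_of_mem hT hlt hr)).2.2 (subB_spec h.1.2 hr),
    fun r hr => (stepB_spec hT (h.2 r ((mem_bits hT hlt).2 hr))).2⟩

theorem topB_spec {P t : ℕ} (h : T.topB P t = true) : P < pw T.N ∧ Top D (bset P) t := by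
  simp only [Tab.topB, Bool.and_eq_true, List.all_eq_true] at h
  obtain ⟨⟨⟨h1, h2⟩, h3⟩, h4⟩ := h
  obtain ⟨hlt, hc⟩ := closedB_spec hT h1
  refine ⟨hlt, hc, mem_bset.2 h2, by rw [← bset_erase]; exact (closedB_spec hT h3).2, fun u hu => ?_⟩
  rw [← bset_erase]
  exact (stepB_spec hT (h4 u ((mem_bits hT hlt).2 hu))).2

theorem stableB_spec {P : ℕ} (h : T.stableB P = true) : P < pw T.N ∧ W.Stable (bset P) := by
  simp only [Tab.stableB, Bool.and_eq_true, List.all_eq_true] at h
  have hlt : P < pw T.N := Nat.le_of_ble_eq_true h.1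
  refine ⟨hlt, fun u hu => ?_⟩
  rw [← (ok_root hT (ok_N hT ▸ lt_of_mem hT hlt hu)).2.1]
  exact mem_bset.2 (h.2 u ((mem_bits hT hlt).2 hu))

theorem pairB_spec {P r : ℕ} (h : T.pairB P r = true) :
    P < pw T.N ∧ W.PairOK (bset P) r ∧ T.rt r = W.root r := by
  simp only [Tab.pairB, Bool.and_eq_true] at h
  obtain ⟨⟨⟨⟨⟨h1, h2⟩, h3⟩, h4⟩, h5⟩, h6⟩ := h
  obtain ⟨hlt, hst⟩ := stableB_spec hT h1
  have hr : r < T.N := Nat.le_of_ble_eq_true h2
  have e := (ok_root hT hr).2.1
  have hs := (stepB_spec hT h6).2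
  have hc := (closedB_spec hT h5).2
  rw [bset_erase, bset_erase, e] at hs
  rw [bset_erase, e] at hc
  refine ⟨hlt, ⟨hst, ok_N hT ▸ hr, ?_, mem_bset.2 h4, hc, hs⟩, e⟩
  have := (ok_root hT (show T.rt r < T.N by
    rw [e, ok_N hT]; exact W.root_lt r (ok_N hT ▸ hr))).2.2 h3
  rwa [e] at this

theorem sm2_ne {x y u n : ℕ} (h : Nat.beq (T.sm2 x y u) (n + 1) = false) :
    0 < T.sm x u → T.sm y (T.sm x u - 1) ≠ n + 1 := by
  intro hp e
  have h0 : Nat.beq (T.sm x u) 0 = false := by
    rcases hb : Nat.beq (T.sm x u) 0 with _ | _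
    · rfl
    · have := Nat.eq_of_beq_eq_true hb; omega
  rw [Tab.sm2, h0, cond_false, e] at h
  simp at h

theorem imMask_spec {i : ℕ} {P : ℕ} (hP : P < pw T.N) :
    bset (T.imMask i P) = T.im i '' bset P := by
  ext x
  have key : ∀ (l : List ℕ) (acc : ℕ), (l.foldl (fun acc r => acc ||| pw (T.im i r)) acc).testBit x = true ↔
      acc.testBit x = true ∨ ∃ r ∈ l, T.im i r = x := by
    intro l
    induction l with
    | nil => simp
    | cons a l ih =>
      intro acc
      rw [List.foldl_cons, ih, Nat.testBit_or, testBit_pw]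
      simp [or_assoc]
  rw [mem_bset, Tab.imMask, key, Set.mem_image]
  simp only [Nat.zero_testBit, Bool.false_eq_true, false_or]
  exact ⟨fun ⟨r, hr, h⟩ => ⟨r, (mem_bits hT hP).1 hr, h⟩, fun ⟨r, hr, h⟩ => ⟨r, (mem_bits hT hP).2 hr, h⟩⟩

theorem good_frames {Tgt : Set (GL D.Idx F)} {m : ℕ} (hF : Frames W T m) :
    ∀ (w : List ℕ), (∀ i ∈ w, i < m) → ∀ {P M : ℕ}, P < pw T.N → bset M ⊆ bset P →
      Good W Tgt (bset (w.foldl (fun S i => T.imMask i S) P))
        (bset (w.foldl (fun S i => T.imMask i S) M)) →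
      Good W Tgt (bset P) (bset M) := by
  intro w
  induction w with
  | nil => intro _ P M _ _ h; exact h
  | cons i w ih =>
    intro hw P M hP hMP h
    obtain ⟨n, hn, hlt, hp, hp'⟩ := hF.move i (hw i (List.mem_cons_self ..))
    have hM : M < pw T.N := by
      rw [pw, Nat.one_shiftLeft]
      refine Nat.lt_pow_two_of_testBit _ fun x hx => ?_
      by_contra hc
      have := lt_of_mem hT hP (hMP (mem_bset.2 (by simpa using hc)))
      have := ok_N hT
      omega
    have hlt' : T.imMask i P < pw T.N := by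
      rw [pw, Nat.one_shiftLeft]
      refine Nat.lt_pow_two_of_testBit _ fun x hx => ?_
      by_contra hc
      have hx' : x ∈ bset (T.imMask i P) := mem_bset.2 (by simpa using hc)
      rw [imMask_spec hT hP] at hx'
      obtain ⟨r, hr, rfl⟩ := hx'
      have := hlt r (lt_of_mem hT hP hr)
      have := ok_N hT
      omega
    rw [List.foldl_cons, List.foldl_cons] at h
    have h2 := ih (fun j hj => hw j (List.mem_cons_of_mem _ hj)) hlt'
      (by rw [imMask_spec hT hP, imMask_spec hT hM]; exact Set.image_mono hMP) h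
    rw [imMask_spec hT hP, imMask_spec hT hM] at h2
    exact good_move hn (T.im i) hp hp' (fun u hu => lt_of_mem hT hP hu) h2

/-- Soundness of a killing step. -/
theorem good_killB [Finite F] {Tgt : Set (GL D.Idx F)} {P M k x r t P2 P' M' : ℕ}
    (h : T.killB P M k x r t P2 P' M' = true) (child : Good W Tgt (bset P') (bset M')) :
    Good W Tgt (bset P) (bset M) := by
  simp only [Tab.killB, Bool.and_eq_true, List.all_eq_true, Bool.or_eq_true, Bool.not_eq_true'] at h
  obtain ⟨⟨⟨⟨⟨⟨⟨⟨⟨⟨⟨⟨⟨⟨b1, b2⟩, b3⟩, b4⟩, b5⟩, b6⟩, b7⟩, b8⟩, b9⟩, b10⟩, b11⟩, b12⟩, b13⟩, b14⟩, b15⟩ := h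
  have hx : x < T.N := Nat.le_of_ble_eq_true b1
  obtain ⟨-, ex, hxp⟩ := ok_root hT hx
  obtain ⟨hP, hst⟩ := stableB_spec hT b3
  obtain ⟨-, hst2⟩ := stableB_spec hT b4
  obtain ⟨hP2, T2⟩ := topB_spec hT b6
  obtain ⟨-, Tr⟩ := topB_spec hT b9
  have hM' : M' < pw T.N := Nat.le_of_ble_eq_true b14
  have hN := ok_N hT
  have et := (ok_root hT (show t < T.N from hN ▸ T2.t_lt)).2.1
  have er := (ok_root hT (show r < T.N from hN ▸ Tr.t_lt)).2.1
  have hbits : ∀ {u}, u ∈ bset P → u ∈ T.bits P := fun hu => (mem_bits hT hP).2 hu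
  rw [Nat.eq_of_beq_eq_true b13, bset_erase, bset_erase, et] at child
  have hsm := ok_sums hT
  rw [ex] at b8
  have K : KillOK W T.sm (bset P) (bset P2) (bset M) (bset M') x r t := by
    refine ⟨hst, hst2, subB_spec b5, T2, hxp b2, (stepB_spec hT b7).2, (stepB_spec hT b8).2, Tr,
      mem_bset.2 b10, fun ht => ?_, fun n hn => ?_⟩
    · rcases b11 with hb | hb
      · exact absurd (et.symm.trans (Nat.eq_of_beq_eq_true hb)) ht
      · exact (pairB_spec hT hb).2.1
    · obtain ⟨⟨⟨c1, c2⟩, c3⟩, c4⟩ := b15 n ((mem_bits hT hM').2 hn)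
      refine ⟨mem_bset.2 c1, (topB_spec hT c2).2, (topB_spec hT c3).2, fun u hu => ?_⟩
      obtain ⟨⟨d1, d2⟩, d3⟩ := c4 u (hbits hu)
      rw [ex] at d2 d3
      exact ⟨fun e => by rw [e] at d1; simp at d1, fun e => by rw [e] at d2; simp at d2, sm2_ne hT d3⟩
  have iffb : ∀ {a b c : ℕ}, Nat.beq a b = Nat.beq c r → (a = b ↔ c = r) := by
    intro a b c e
    constructor
    · rintro rfl; exact Nat.eq_of_beq_eq_true (e ▸ by simp)
    · rintro rfl; exact Nat.eq_of_beq_eq_true (e.symm ▸ by simp)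
  unfold Tab.kindB at b12
  simp only [ex, er, et] at b12
  split at b12
  · simp only [Bool.and_eq_true, List.all_eq_true, Bool.or_eq_true, Bool.not_eq_true', beq_iff_eq] at b12
    obtain ⟨e1, e2⟩ := b12
    have hrest : ∀ u ∈ bset P, W.root x ≠ x → T.sm (W.root x) u ≠ t + 1 ∧
        (0 < T.sm x u → T.sm (W.root x) (T.sm x u - 1) ≠ t + 1) := by
      intro u hu hne
      rcases (e2 u (hbits hu)).2 with hb | ⟨hb1, hb2⟩
      · exact absurd (Nat.eq_of_beq_eq_true hb) hne
      · exact ⟨fun e => by rw [e] at hb1; simp at hb1, sm2_ne hT hb2⟩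
    refine good_kill_single hsm K child (fun hs => ?_) ((iffb (e2 r (hbits Tr.mem)).1).2 rfl)
      (hrest r Tr.mem) fun u hu hur => ⟨fun e => hur ((iffb (e2 u (hbits hu)).1).1 e), hrest u hu⟩
    rcases e1 with hb | ⟨hb1, hb2⟩
    · rw [hs] at hb; simp at hb
    · exact ⟨Nat.eq_of_beq_eq_true hb1, Nat.eq_of_beq_eq_true hb2⟩
  · simp only [Bool.and_eq_true, List.all_eq_true, Bool.not_eq_true', beq_iff_eq] at b12
    obtain ⟨⟨⟨⟨⟨e1, e2⟩, e3⟩, e4⟩, e5⟩, e6⟩ := b12
    have hstep := (stepB_spec hT e5).2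
    rw [bset_erase, bset_erase] at hstep
    refine good_kill_trace hsm K child (fun e => by rw [e] at e1; simp at e1)
      (fun e => by rw [e] at e2; simp at e2) (Nat.eq_of_beq_eq_true e3) (topB_spec hT e4).2 hstep
      fun u hu => ?_
    obtain ⟨⟨f1, f2⟩, f3⟩ := e6 u (hbits hu)
    refine ⟨iffb f1, ?_, fun hh => sm2_ne hT f3 hh.1 hh.2⟩
    constructor
    · intro e; exact Nat.eq_of_beq_eq_true (f2 ▸ by rw [e]; simp)
    · intro e; exact Nat.eq_of_beq_eq_true (f2.symm ▸ by rw [e]; simp)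
  · simp only [Bool.and_eq_true, List.all_eq_true, Bool.not_eq_true', beq_iff_eq] at b12
    obtain ⟨⟨⟨e1, e2⟩, e3⟩, e4⟩ := b12
    refine good_kill_norm hsm K child (fun e => by rw [e] at e1; simp at e1)
      (Nat.eq_of_beq_eq_true e2) (Nat.eq_of_beq_eq_true e3) fun u hu => ?_
    obtain ⟨⟨f1, f2⟩, f3⟩ := e4 u (hbits hu)
    refine ⟨fun e => by rw [e] at f1; simp at f1, fun e => by rw [e] at f2; simp at f2, ?_⟩
    rw [← iffb f3, Tab.sm2]
    rcases Nat.eq_zero_or_pos (T.sm x u) with h0 | hp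
    · rw [h0]; simp
    · have hb : Nat.beq (T.sm x u) 0 = false := by
        rcases hb : Nat.beq (T.sm x u) 0 with _ | _
        · rfl
        · have := Nat.eq_of_beq_eq_true hb; omega
      rw [hb, cond_false]
      exact ⟨fun h => h.2, fun h => ⟨hp, h⟩⟩
  · simp only [Bool.and_eq_true, List.all_eq_true, beq_iff_eq] at b12
    obtain ⟨⟨e1, e2⟩, e3⟩ := b12
    simp only [Tab.relB, Bool.and_eq_true, List.all_eq_true, decide_eq_true_eq,
      Bool.not_eq_true', er, et] at e2
    obtain ⟨⟨⟨⟨⟨⟨⟨⟨⟨⟨⟨⟨⟨r1, r2⟩, r3⟩, r4⟩, r5⟩, r6⟩, r7⟩, r8⟩, r9⟩, r10⟩, r11⟩, r12⟩, r13⟩, r14⟩ := e2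
    obtain ⟨hS, TS⟩ := topB_spec hT r5
    have s6 := (stepB_spec hT r6).2
    have s7 := (stepB_spec hT r7).2
    simp only [bset_erase] at s6 s7 TS
    refine good_kill_rel hsm K child (Nat.eq_of_beq_eq_true e1) (T := T.sm r (W.root t) - 1)
      ⟨(topB_spec hT r1).2, (topB_spec hT r2).2, (topB_spec hT r3).2, r4, TS, s6, s7, fun u hu => ?_,
        Nat.eq_of_beq_eq_true r9, Nat.eq_of_beq_eq_true r10, Nat.eq_of_beq_eq_true r11,
        Nat.eq_of_beq_eq_true r12, Nat.eq_of_beq_eq_true r13, Nat.eq_of_beq_eq_true r14⟩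
      fun u hu => iffb (e3 u (hbits hu))
    obtain ⟨⟨g1, g2⟩, g3⟩ := r8 u hu
    have t1 := (stepB_spec hT g1).2
    have t2 := (stepB_spec hT g2).2
    simp only [bset_erase] at t1 t2
    refine ⟨t1, t2, fun v hv e => ?_⟩
    have := g3 v ((mem_bits hT hS).2 (by simpa only [bset_erase] using hv))
    rw [e] at this
    simp at this

/-- Soundness of a contradiction step. -/
theorem good_contraB {Tgt : Set (GL D.Idx F)} {P M a b t : ℕ} (h : T.contraB P M a b t = true) :
    Good W Tgt (bset P) (bset M) := by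
  simp only [Tab.contraB, Bool.and_eq_true, Bool.or_eq_true, List.all_eq_true, Bool.not_eq_true'] at h
  obtain ⟨⟨⟨⟨⟨⟨⟨⟨⟨⟨⟨⟨⟨⟨⟨b1, b2⟩, b3⟩, b4⟩, b5⟩, b6⟩, b7⟩, b8⟩, b9⟩, b10⟩, b11⟩, b12⟩, b13⟩, b14⟩, b15⟩, b16⟩ := h
  obtain ⟨hPlt, hP⟩ := closedB_spec hT b1
  have hQ := (closedB_spec hT b10).2
  simp only [bset_erase] at hQ
  have hab : a ≠ b := fun e => by subst e; simp at b7
  have hat : a ≠ t := fun e => by subst e; simp at b8
  have hbt : b ≠ t := fun e => by subst e; simp at b9
  have hterm : ∀ {u v : ℕ}, P.testBit u = true → P.testBit v = true → v ≠ u →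
      (T.sm u v = 0 ∧ oddTerms D u v = []) ∨
        ∃ k z, T.sm u v = k + 1 ∧ oddTerms D u v = [(k, z, 1, 1)] := fun {u v} hu hv huv =>
    (ok_sums hT).terms u v (hP.pos u hu).1 (hP.pos v hv).1 huv ((hP.step u hu) v hv).2.1
  have hmemQ : ∀ {u : ℕ}, P.testBit u = true → u ≠ t →
      (Nat.beq (T.sm u t) 0 = true ∨ (erase (erase (erase P a) b) t).testBit (T.sm u t - 1) = true) →
      ∀ d ∈ oddTerms D u t, d.1 ∈ ((bset P \ {a}) \ {b}) \ {t} := by
    intro u hu hut hor d hd
    rcases hterm hu b4 (Ne.symm hut) with ⟨-, he⟩ | ⟨k, z, hk, he⟩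
    · rw [he] at hd; exact absurd hd List.not_mem_nil
    · rw [he, List.mem_singleton] at hd
      subst hd
      rcases hor with hh | hh
      · have := Nat.eq_of_beq_eq_true hh; omega
      · rw [hk, Nat.add_sub_cancel] at hh
        simpa only [bset_erase] using mem_bset.2 hh
  obtain ⟨k, z, hk, he⟩ : ∃ k z, T.sm a b = k + 1 ∧ oddTerms D a b = [(k, z, 1, 1)] :=
    (hterm b2 b3 (Ne.symm hab)).resolve_left fun hh => by
      have := Nat.eq_of_beq_eq_true b16; omega
  obtain rfl : k = t := by have := Nat.eq_of_beq_eq_true b16; omega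
  refine good_contra (F4Invol.good_contra C hP (mem_bset.2 b2) (mem_bset.2 b3) (mem_bset.2 b4)
    (mem_bset.2 b5) (mem_bset.2 b6) hab hat hbt hQ (fun u hu => ?_) ?_ ?_ (hmemQ b2 hat b14)
    (hmemQ b3 hbt b15) (fun d hd => ?_) (c₀ := (k, z, 1, 1)) ?_ ⟨rfl, rfl⟩)
  · simpa only [bset_erase] using (stepB_spec hT (b11 u ((mem_bits hT hPlt).2 hu))).2
  · rw [← bset_erase]; exact (stepB_spec hT b12).2
  · simpa only [bset_erase] using (stepB_spec hT b13).2
  · rw [he, List.mem_singleton] at hd; subst hd; exact Or.inl rfl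
  · rw [he]; simp

/-- Soundness of the certificate. -/
theorem good_of_check [Finite F] {Tgt : Set (GL D.Idx F)} {m : ℕ} (hF : Frames W T m)
    {reps : List ℕ} {nodes : List TNode}
    (hc : ∀ k < nodes.length, T.nodeB m reps nodes k = true)
    (hreps : ∀ j < reps.length, Good W Tgt (bset (reps.getD j 0)) (bset (reps.getD j 0))) :
    ∀ k < nodes.length, Good W Tgt (bset (nodes.getD k (0, 0, TStep.empty)).1)
      (bset (nodes.getD k (0, 0, TStep.empty)).2.1) := by
  suffices ∀ d k, k < nodes.length → nodes.length ≤ k + d →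
      Good W Tgt (bset (nodes.getD k (0, 0, TStep.empty)).1)
        (bset (nodes.getD k (0, 0, TStep.empty)).2.1) from
    fun k hk => this nodes.length k hk (by omega)
  intro d
  induction d with
  | zero => intro k hk h; omega
  | succ d ih =>
    intro k hk hkm
    have h := hc k hk
    rcases hnd : nodes.getD k (0, 0, TStep.empty) with ⟨P, M, st⟩
    simp only [Tab.nodeB, hnd] at h
    cases st with
    | empty =>
      simp only at h
      exact good_empty (by
        rw [Nat.eq_of_beq_eq_true h]; ext x; simp [mem_bset])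
    | branch r c₀ c₁ =>
      simp only [Bool.and_eq_true] at h
      obtain ⟨⟨⟨⟨⟨⟨⟨⟨h1, h2⟩, h3⟩, h4⟩, h5⟩, h6⟩, h7⟩, h8⟩, h9⟩ := h
      have a1 := ih c₀ (Nat.le_of_ble_eq_true h3) (by have := Nat.le_of_ble_eq_true h1; omega)
      have a2 := ih c₁ (Nat.le_of_ble_eq_true h4) (by have := Nat.le_of_ble_eq_true h2; omega)
      obtain ⟨hP, hpair, er⟩ := pairB_spec hT h5
      rw [Nat.eq_of_beq_eq_true h6, bset_erase, bset_erase, er] at a1
      rw [Nat.eq_of_beq_eq_true h8] at a2
      refine good_branch hpair (fun u hu => lt_of_mem hT hP hu) ?_ (subB_spec h7) a1 a2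
      refine (subB_spec h9).trans fun x hx => ?_
      simp only [mem_bset, Nat.testBit_or, testBit_pw, Bool.or_eq_true, decide_eq_true_eq, er] at hx
      rcases hx with (hx | hx) | hx
      · exact Or.inr (Or.inr hx)
      · exact Or.inl hx.symm
      · exact Or.inr (Or.inl hx.symm)
    | kill kk x r t P2 c =>
      simp only [Bool.and_eq_true] at h
      exact good_killB hT h.2
        (ih c (Nat.le_of_ble_eq_true h.1.2) (by have := Nat.le_of_ble_eq_true h.1.1; omega))
    | contra a b t =>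
      exact good_contraB hT h
    | move w c =>
      simp only [Bool.and_eq_true, List.all_eq_true] at h
      obtain ⟨⟨⟨⟨⟨⟨h1, h2⟩, h3⟩, h4⟩, h5⟩, h6⟩, h7⟩ := h
      have a1 := (ih c (Nat.le_of_ble_eq_true h2) (by have := Nat.le_of_ble_eq_true h1; omega)).mono
        (subB_spec h7)
      rw [Nat.eq_of_beq_eq_true h6] at a1
      exact good_frames hT hF w (fun i hi => Nat.le_of_ble_eq_true (h5 i hi))
        (Nat.le_of_ble_eq_true h3) (subB_spec h4) a1
    | done j =>
      simp only [Bool.and_eq_true] at h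
      rw [show M = P from Nat.eq_of_beq_eq_true h.2, Nat.eq_of_beq_eq_true h.1.2]
      exact hreps j (Nat.le_of_ble_eq_true h.1.1)

end spec

end CfsgLib.InvolTwist
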