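import Cfsg.Agent.Lib.InvolTwist.Data

/-!
Kernel check of part of the certificate for the involutions of ²E₆.
-/

set_option autoImplicit false

namespace CfsgLib.InvolTwist

theorem e6Check0 : ((List.range' 0 97).all fun k =>
    tabE6.nodeB 4 e6Reps e6Nodes k) = true := by decide +kernel

end CfsgLib.InvolTwist
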