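import Cfsg.Agent.Lib.InvolTwist.Check0
import Cfsg.Agent.Lib.InvolTwist.Check1
import Cfsg.Agent.Lib.InvolTwist.Check2
import Cfsg.Agent.Lib.InvolTwist.Check3
import Cfsg.Agent.Lib.InvolLaced.ClassE6
import Cfsg.Agent.Lib.TwistedStr.TorusE6
import Cfsg.Agent.Lib.TwistedStr.Structure

/-!
The three classes of involutions of ²E₆ over a finite field of characteristic two.
-/

set_option autoImplicit false
set_option linter.unusedSectionVars false

namespace CfsgLib.InvolTwist

open Cfsg.Lie CfsgLib.ChevStr CfsgLib.Twisted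
open CfsgLib.F4Invol (bset mem_bset oddTerms OddStep Closed2 exists_word exists_pow_eq pw)
open CfsgLib.InvolLaced (wprod wprod_collect wprod_append wprod_cons wprod_nil collect rkSub rkSub_conj)
open scoped MatrixGroups

theorem e6_check : ∀ k < e6Nodes.length, tabE6.nodeB 4 e6Reps e6Nodes k = true := by
  intro k hk
  rw [length_e6Nodes] at hk
  have h := fun (lo len : ℕ) (hc : ((List.range' lo len).all fun k => tabE6.nodeB 4 e6Reps e6Nodes k) = true)
    (h1 : lo ≤ k) (h2 : k < lo + len) => List.all_eq_true.1 hc k (List.mem_range'_1.2 ⟨h1, h2⟩)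
  rcases lt_or_ge k 97 with h0 | h0
  · exact h 0 97 e6Check0 (Nat.zero_le _) (by omega)
  rcases lt_or_ge k 195 with h1 | h1
  · exact h 97 98 e6Check1 h0 (by omega)
  rcases lt_or_ge k 293 with h2 | h2
  · exact h 195 98 e6Check2 h1 (by omega)
  · exact h 293 98 e6Check3 h2 (by omega)

theorem e6_root_facts : ∀ r : Fin chevE6.nroots,
    e6Sym.root r.val < chevE6.nroots ∧ e6Sym.root (e6Sym.root r.val) = r.val ∧
    (e6Sym.root r.val ≠ r.val → e6Sym.root r.val ≠ chevE6.neg r.val ∧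
      chevE6.commTerms r.val (e6Sym.root r.val) = []) ∧
    (chevE6.IsPosRoot r.val → chevE6.IsPosRoot (e6Sym.root r.val) ∧ tabE6.pos.testBit r.val = true) := by
  decide +kernel

theorem e6_img_facts : ∀ i : Fin 4, ∀ r : Fin chevE6.nroots,
    tabE6.im i.val r.val = (reflDataE6.wordPerm (e6TwistWord i) r : ℕ) := by decide +kernel

variable (K : Type*) [Field K] [Fintype K] [CharP K 2] {n : ℕ}
  (hn : Fintype.card K = 2 ^ n * 2 ^ n) (hq : 2 ≤ 2 ^ n)

/-- The field automorphism. -/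
noncomputable def sigma (n : ℕ) : K →+* K :=
  haveI : ExpChar K 2 := ExpChar.prime Nat.prime_two
  iterateFrobenius K 2 n

theorem sigma_apply (x : K) : sigma K n x = x ^ 2 ^ n := by
  rw [sigma, iterateFrobenius_def]

include hn in
theorem sigma_sigma (x : K) : sigma K n (sigma K n x) = x := by
  rw [sigma_apply, sigma_apply, ← pow_mul, ← hn, FiniteField.pow_card]

/-- ²E₆ with its endomorphism. -/
noncomputable def twistE6 : Twist (coreE6 K) :=
  haveI : ExpChar K 2 := ExpChar.prime Nat.prime_two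
  { root := e6Sym.root
    σ := sigma K n
    act := (frobE6 K 2 n).act
    G := twistedE6 K (2 ^ n)
    le := fun g hg => (le_fixedE6 K hn hg).1
    root_lt := fun r hr => (e6_root_facts ⟨r, hr⟩).1
    root_root := fun r hr => (e6_root_facts ⟨r, hr⟩).2.1
    σσ := sigma_sigma K hn
    σ_ne := by
      by_contra h
      push Not at h
      have hc := card_pow_eq_self (F := K) hq (by
        rw [hn, show 2 ^ n * 2 ^ n - 1 = (2 ^ n + 1) * (2 ^ n - 1) from by
          rw [Nat.add_one_mul, Nat.mul_sub_one]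
          have : 2 ^ n ≤ 2 ^ n * 2 ^ n := Nat.le_mul_self _
          omega]
        exact Dvd.intro_left _ rfl)
      rw [show Nat.card ↑{t : K | t ^ 2 ^ n = t} = Nat.card K from Nat.card_congr
          (Equiv.subtypeUnivEquiv fun x => show x ^ 2 ^ n = x from (sigma_apply K x).symm.trans (h x)),
        Nat.card_eq_fintype_card, hn] at hc
      nlinarith
    act_fix := fun g hg => (le_fixedE6 K hn hg).2
    act_mul := fun a ha b hb => (frobE6 K 2 n).act_mul ha hb
    act_x := fun r hr t => by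
      rw [show (coreE6 K).xGL r t = (coreE6 K).xGL (⟨r, hr⟩ : Fin chevE6.nroots) t from rfl,
        (frobE6 K 2 n).act_x, sigma_apply]
      rcases (frobE6 K 2 n).ε_unit ⟨r, hr⟩ with e | e <;> rw [e] <;>
        simp only [CharTwo.neg_eq, one_mul] <;> rfl
    pair_mem := fun r hr hne t => by
      have hrn : r < chevE6.nroots := hr.1
      obtain ⟨h1, h2, h3, h4⟩ := e6_root_facts ⟨r, hrn⟩
      obtain ⟨h5, h6⟩ := h3 hne
      refine (gensE6 K hn hq).fixU_pos.1 (Subgroup.mem_inf.2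
        ⟨mul_mem ((coreE6 K).xGL_mem_Ucl (show r ∈ {r | chevE6.IsPosRoot r} from hr) _)
          ((coreE6 K).xGL_mem_Ucl (show e6Sym.root r ∈ {r | chevE6.IsPosRoot r} from (h4 hr).1) _),
        mul_mem ((coreE6 K).xGL_mem_group _ _) ((coreE6 K).xGL_mem_group _ _), ?_⟩)
      have hact : ∀ s < chevE6.nroots, ∀ u : K, (frobE6 K 2 n).act ((coreE6 K).xGL s u) =
          (coreE6 K).xGL (e6Sym.root s) (sigma K n u) := fun s hs u => by
        rw [show (coreE6 K).xGL s u = (coreE6 K).xGL (⟨s, hs⟩ : Fin chevE6.nroots) u from rfl,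
          (frobE6 K 2 n).act_x, sigma_apply]
        rcases (frobE6 K 2 n).ε_unit ⟨s, hs⟩ with e | e <;> rw [e] <;>
          simp only [CharTwo.neg_eq, one_mul] <;> rfl
      rw [(frobE6 K 2 n).act_mul ((coreE6 K).xGL_mem_group _ _) ((coreE6 K).xGL_mem_group _ _),
        hact r hrn, hact _ h1, h2, sigma_sigma K hn]
      exact (coreE6 K).xGL_commute hrn h1 hne h5 (by simp [h6]) _ _
    fix_mem := fun r hr he t ht => by
      refine (gensE6 K hn hq).fixU_pos.1 (Subgroup.mem_inf.2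
        ⟨(coreE6 K).xGL_mem_Ucl (show r ∈ {r | chevE6.IsPosRoot r} from hr) _,
          (coreE6 K).xGL_mem_group _ _, ?_⟩)
      rw [show (coreE6 K).xGL r t = (coreE6 K).xGL (⟨r, hr.1⟩ : Fin chevE6.nroots) t from rfl,
        (frobE6 K 2 n).act_x]
      rw [sigma_apply] at ht
      rcases (frobE6 K 2 n).ε_unit ⟨r, hr.1⟩ with e | e <;> rw [e] <;>
        simp only [CharTwo.neg_eq, one_mul] <;>
        exact congrArg₂ (coreE6 K).xGL he ht }

theorem tab_ok : tabE6.ok chevE6 (twistE6 K hn hq).root = true := tabE6_ok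

theorem framesE6 : Frames (twistE6 K hn hq) tabE6 4 := by
  have : ExpChar K 2 := ExpChar.prime Nat.prime_two
  have g := gensE6 K hn hq
  refine ⟨fun i hi => ⟨g.s ⟨i, hi⟩, g.s_mem _, ?_⟩⟩
  have hw : g.wJ ⟨i, hi⟩ = reflDataE6.wordPerm (e6TwistWord ⟨i, hi⟩) :=
    g.wJ_eq _ ((reflDataE6.weylSub _).list_prod_mem fun x hx => by
      obtain ⟨j, hj, rfl⟩ := List.mem_map.1 hx
      exact reflDataE6.sPerm_mem_sub (e6_word_mem _ j hj)) (e6_word_neg _)
  have him : ∀ r : Fin chevE6.nroots, tabE6.im i r.val = (g.wJ ⟨i, hi⟩ r : ℕ) := fun r => by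
    rw [hw]; exact e6_img_facts ⟨i, hi⟩ r
  have hinv := ChevCore.Moves.inv (coreE6 K) (g.s_mem_N ⟨i, hi⟩) (g.s_moves ⟨i, hi⟩)
  refine ⟨fun r hr => by rw [him ⟨r, hr⟩]; exact Fin.isLt _, fun r hr x => ?_, fun r hr x => ?_⟩
  · obtain ⟨u, hu⟩ := (g.s_moves ⟨i, hi⟩).2 ⟨r, hr⟩ x
    exact ⟨u, by rw [him ⟨r, hr⟩]; exact hu⟩
  · obtain ⟨u, hu⟩ := hinv.2 (g.wJ ⟨i, hi⟩ ⟨r, hr⟩) x
    refine ⟨u, ?_⟩
    rw [inv_inv, show ((g.wJ ⟨i, hi⟩)⁻¹ (g.wJ ⟨i, hi⟩ ⟨r, hr⟩)) = ⟨r, hr⟩ from
      Equiv.Perm.inv_eq_iff_eq.2 rfl] at hu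
    rw [him ⟨r, hr⟩]
    exact hu

/-- A fixed vector of torus parameters. -/
noncomputable def cvec (n : ℕ) (x₀ x₁ x₂ x₃ : Kˣ) : Fin chevE6.rank → Kˣ :=
  fun k => [x₀, x₁, x₂, x₃, x₂ ^ 2 ^ n, x₀ ^ 2 ^ n].getD k.val 1

/-- The Cartan integers at the roots of the representatives. -/
theorem char_facts :
    [71, 66, 68, 45, 59, 40, 43, 60].map (fun r => (List.range 6).map fun i => chevE6.cartan i r) =
      [[0, 1, 0, 0, 0, 0], [1, 0, -1, 0, 1, 0], [0, 0, 1, 0, -1, 1], [-1, -1, 1, 0, 0, 1],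
        [1, -1, 0, 0, 1, -1], [0, -1, -1, 1, 1, -1], [-1, -1, 1, 1, -1, 0], [1, -1, 0, 0, 0, 1]] := by
  decide +kernel

/-- The products of the representatives. -/
def repLists : List (List ℕ) := [[71], [66, 68], [45, 59, 71]]

/-- The representatives. -/
noncomputable def rep (i : Fin 3) : GL chevE6.Idx K := wprod (coreE6 K) (repLists.getD i.val [])

/-- The facts needed about a final state. -/
def stateB (L : List ℕ) (P : ℕ) : Bool :=
  tabE6.stableB P && L.all (fun r => decide (r < 72) && tabE6.topB P r) &&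
    decide (((List.range 72).filter fun r => P.testBit r) = L) && decide (L.Pairwise (· < ·))

theorem co_word {P : Set ℕ} (L : List ℕ) (hL : L.Nodup) (hsub : ∀ r ∈ L, r ∈ P) {r : ℕ}
    (T : Top chevE6 P r) (t : ℕ → K) :
    co (coreE6 K) P r ((coreE6 K).word L t) = if r ∈ L then t r else 0 := by
  induction L with
  | nil => simp [ChevCore.word_nil, T.co_one]
  | cons k L ih =>
    obtain ⟨hk, hL'⟩ := List.nodup_cons.1 hL
    have hkP := hsub k (List.mem_cons_self ..)
    have hLP : (coreE6 K).word L t ∈ (coreE6 K).Ucl P := by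
      refine Subgroup.list_prod_mem _ fun x hx => ?_
      simp only [List.map_map, List.mem_map, Function.comp] at hx
      obtain ⟨s, hs, rfl⟩ := hx
      exact (coreE6 K).xGL_mem_Ucl (hsub s (List.mem_cons_of_mem _ hs)) _
    rw [(coreE6 K).word_cons, T.co_mul ((coreE6 K).xGL_mem_Ucl hkP _) hLP, T.co_xGL hkP,
      ih hL' fun s hs => hsub s (List.mem_cons_of_mem _ hs)]
    by_cases hkr : k = r
    · subst hkr; simp [hk]
    · simp [hkr, Ne.symm hkr]

include hn hq in
theorem state_coords {L : List ℕ} {P : ℕ} (h : stateB L P = true) {g : GL chevE6.Idx K}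
    (hG : g ∈ (twistE6 K hn hq).G) (hg : g ∈ (coreE6 K).Ucl (bset P))
    (hM : ∀ r ∈ bset P, g ∉ (coreE6 K).Ucl (bset P \ {r})) :
    ∃ t : ℕ → K, g = (coreE6 K).word L t ∧ (∀ r ∈ L, t r ≠ 0) ∧
      ∀ r ∈ L, t (e6Sym.root r) = t r ^ 2 ^ n := by
  simp only [stateB, Bool.and_eq_true, decide_eq_true_eq, List.all_eq_true] at h
  obtain ⟨⟨⟨hst, htop⟩, hfil⟩, hsort⟩ := h
  have hok := tab_ok K hn hq
  obtain ⟨hlt, hst'⟩ := stableB_spec hok hst
  have hset : {r | r ∈ L} = bset P := by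
    ext r
    show r ∈ L ↔ r ∈ bset P
    rw [← hfil]
    exact mem_bits hok hlt
  have hmem : ∀ r ∈ L, r ∈ bset P := fun r hr => hset ▸ hr
  have hT : ∀ r ∈ L, Top chevE6 (bset P) r := fun r hr => (topB_spec hok (htop r hr).2).2
  have hnd : L.Nodup := hsort.imp ne_of_lt
  obtain ⟨t, ht⟩ : ∃ t, g = (coreE6 K).word L t := by
    cases L with
    | nil =>
      refine ⟨0, ?_⟩
      have h0 : (coreE6 K).Ucl (bset P) ≤ ⊥ := (coreE6 K).Ucl_le fun r hr => by
        rw [← hset] at hr; exact absurd hr List.not_mem_nil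
      simpa [ChevCore.word_nil] using h0 hg
    | cons a L =>
      exact exists_word (coreE6 K) hsort (hset ▸ (hT a (List.mem_cons_self ..)).closed) g (hset ▸ hg)
  have hco : ∀ r ∈ L, co (coreE6 K) (bset P) r g = t r := fun r hr => by
    rw [ht, co_word K L hnd hmem (hT r hr), if_pos hr]
  refine ⟨t, ht, fun r hr => ?_, fun r hr => ?_⟩
  · rw [← hco r hr]; exact (hT r hr).co_ne hg (hM r (hmem r hr))
  · have hr' : e6Sym.root r ∈ L := by
      have := hst' r (hmem r hr)
      rw [← hset] at this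
      exact this
    rw [← hco r hr, ← hco _ hr', ← sigma_apply K]
    exact (twistE6 K hn hq).co_root hst' (hT r hr) (hT _ hr') hG hg

include hn in
theorem exists_char (x₀ x₁ x₂ x₃ : Kˣ) (h1 : x₁ ^ 2 ^ n = x₁) (h3 : x₃ ^ 2 ^ n = x₃) :
    (coreE6 K).R.torus (cvec K n x₀ x₁ x₂ x₃) ∈ twistedE6 K (2 ^ n) ∧
    ∀ r < chevE6.nroots, (coreE6 K).R.torusChar (cvec K n x₀ x₁ x₂ x₃) ((coreE6 K).R.α r) =
      x₀ ^ chevE6.cartan 0 r * x₁ ^ chevE6.cartan 1 r * x₂ ^ chevE6.cartan 2 r *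
        x₃ ^ chevE6.cartan 3 r * (x₂ ^ 2 ^ n) ^ chevE6.cartan 4 r * (x₀ ^ 2 ^ n) ^ chevE6.cartan 5 r := by
  have : ExpChar K 2 := ExpChar.prime Nat.prime_two
  have hp : ∀ u : Kˣ, (u ^ 2 ^ n) ^ 2 ^ n = u := unit_pow_sq K hn
  obtain ⟨e0, e1, e2, e3, e4, e5⟩ := piE6_vals
  constructor
  · refine fixTorus_leE6 K _ (mem_fixTorus.2 fun j => ?_)
    rcases nodeE6_cases j with rfl | rfl | rfl | rfl | rfl | rfl
    · rw [e0]; rfl
    · rw [e1]; exact h1.symm
    · rw [e2]; rfl
    · rw [e3]; exact h3.symm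
    · rw [e4]; exact (hp x₂).symm
    · rw [e5]; exact (hp x₀).symm
  · intro r hr
    rw [(coreE6 K).R.torusChar_root _ hr]
    exact Fin.prod_univ_six (fun k : Fin 6 =>
      [x₀, x₁, x₂, x₃, x₂ ^ 2 ^ n, x₀ ^ 2 ^ n].getD k.val 1 ^ chevE6.cartan k.val r)

theorem torus_wprod (c : Fin chevE6.rank → Kˣ) (L : List ℕ) (hL : ∀ r ∈ L, r < chevE6.nroots)
    (t : ℕ → K) (h : ∀ r ∈ L, ((coreE6 K).R.torusChar c ((coreE6 K).R.α r) : K) * t r = 1) :
    (coreE6 K).R.torus c * (coreE6 K).word L t * ((coreE6 K).R.torus c)⁻¹ = wprod (coreE6 K) L := by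
  rw [torus_conj_word c L hL t, (coreE6 K).word_congr (u := fun _ => (1 : K)) h]
  simp [ChevCore.word, ChevCore.wordGL, wprod, List.map_map, Function.comp_def]

theorem wprod_step (rs T U : List ℕ) (hU : collect chevE6 (rs ++ T ++ rs) = U)
    (hrs : collect chevE6 (rs ++ rs) = []) :
    wprod (coreE6 K) rs * wprod (coreE6 K) T * (wprod (coreE6 K) rs)⁻¹ = wprod (coreE6 K) U := by
  have hL := InvolLaced.E6.laced
  have hinv : (wprod (coreE6 K) rs)⁻¹ = wprod (coreE6 K) rs := by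
    refine inv_eq_of_mul_eq_one_right ?_
    rw [← wprod_append, ← wprod_collect (coreE6 K) hL, hrs, wprod_nil]
  rw [hinv, ← wprod_append, ← wprod_append, ← hU, wprod_collect (coreE6 K) hL]

theorem pos_list_facts : ∀ r ∈ [71, 66, 68, 45, 59, 48, 50, 53, 63, 40, 43, 60],
    r < chevE6.nroots ∧ chevE6.IsPosRoot r := by decide +kernel

theorem root_list_facts : [71, 66, 68, 45, 59, 48, 50, 53, 63, 40, 43, 60].map e6Sym.root =
    [71, 68, 66, 59, 45, 50, 48, 53, 63, 43, 40, 60] := by decide +kernel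

include hn hq in
theorem wprod_orbit_mem (L : List ℕ) (hL : L ∈ [[71], [66, 68], [45, 59], [48, 50], [53], [63], [40, 43], [60]]) :
    wprod (coreE6 K) L ∈ twistedE6 K (2 ^ n) := by
  have hroot := root_list_facts
  simp only [List.map_cons, List.map_nil, List.cons.injEq, and_true] at hroot
  obtain ⟨a71, a66, -, a45, -, a48, -, a53, a63, a40, -, a60⟩ := hroot
  have one : ∀ r, r ∈ [71, 66, 68, 45, 59, 48, 50, 53, 63, 40, 43, 60] → e6Sym.root r = r →
      wprod (coreE6 K) [r] ∈ twistedE6 K (2 ^ n) := fun r hr he => by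
    rw [wprod_cons, wprod_nil, mul_one]
    exact (twistE6 K hn hq).fix_mem r (pos_list_facts r hr).2 he 1 (map_one _)
  have two : ∀ r s, r ∈ [71, 66, 68, 45, 59, 48, 50, 53, 63, 40, 43, 60] → e6Sym.root r = s → s ≠ r →
      wprod (coreE6 K) [r, s] ∈ twistedE6 K (2 ^ n) := fun r s hr he hne => by
    rw [wprod_cons, wprod_cons, wprod_nil, mul_one]
    have h := (twistE6 K hn hq).pair_mem r (pos_list_facts r hr).2
      (show e6Sym.root r ≠ r by rw [he]; exact hne) 1
    rw [map_one] at h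
    rw [← he]
    exact h
  simp only [List.mem_cons, List.not_mem_nil, or_false] at hL
  rcases hL with rfl | rfl | rfl | rfl | rfl | rfl | rfl | rfl
  exacts [one 71 (by simp) a71, two 66 68 (by simp) a66 (by norm_num),
    two 45 59 (by simp) a45 (by norm_num), two 48 50 (by simp) a48 (by norm_num),
    one 53 (by simp) a53, one 63 (by simp) a63, two 40 43 (by simp) a40 (by norm_num),
    one 60 (by simp) a60]

include hn hq in
theorem rep_mem (i : Fin 3) : rep K i ∈ twistedE6 K (2 ^ n) := by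
  have h := wprod_orbit_mem K hn hq
  fin_cases i
  · exact h [71] (by simp)
  · exact h [66, 68] (by simp)
  · show wprod (coreE6 K) ([45, 59] ++ [71]) ∈ _
    rw [wprod_append]
    exact mul_mem (h _ (by simp)) (h _ (by simp))

/-- The targets. -/
def targetSet : Set (GL chevE6.Idx K) := Set.range (rep K)

include hn hq in
theorem good0 : Good (twistE6 K hn hq) (targetSet K) (bset (e6Reps.getD 0 0)) (bset (e6Reps.getD 0 0)) := by
  intro g hG _ _ hg hM
  obtain ⟨t, rfl, hne, hroot⟩ := state_coords K hn hq (L := [71]) (by decide +kernel) hG hg hM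
  have hf : e6Sym.root 71 = 71 := by decide +kernel
  set C' := Units.mk0 (t 71) (hne 71 (by simp))
  have hC : C'⁻¹ ^ 2 ^ n = C'⁻¹ := by
    rw [inv_pow]
    refine congrArg _ (Units.ext ?_)
    have := hroot 71 (by simp)
    rw [hf] at this
    simpa [C'] using this.symm
  obtain ⟨hmem, hchar⟩ := exists_char K hn (1 : Kˣ) C'⁻¹ 1 1 hC (one_pow _)
  refine ⟨_, hmem, 0, (torus_wprod K _ [71] (fun r hr => (pos_list_facts r (by simp_all)).1) t ?_).symm⟩
  intro r hr
  rw [List.mem_singleton] at hr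
  subst hr
  have hc := char_facts
  simp only [List.map_cons, List.map_nil, List.range_succ, List.range_zero, List.nil_append,
    List.cons_append, List.cons.injEq, and_true] at hc
  obtain ⟨⟨a0, a1, a2, a3, a4, a5⟩, -⟩ := hc
  rw [hchar 71 (pos_list_facts 71 (by simp)).1, a0, a1, a2, a3, a4, a5]
  simp [C', hne]

include hn hq in
theorem good1 : Good (twistE6 K hn hq) (targetSet K) (bset (e6Reps.getD 1 0)) (bset (e6Reps.getD 1 0)) := by
  intro g hG _ _ hg hM
  obtain ⟨t, rfl, hne, hroot⟩ := state_coords K hn hq (L := [66, 68]) (by decide +kernel) hG hg hM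
  have hf : e6Sym.root 66 = 68 := by decide +kernel
  set A := Units.mk0 (t 66) (hne 66 (by simp))
  obtain ⟨hmem, hchar⟩ := exists_char K hn A⁻¹ 1 1 1 (one_pow _) (one_pow _)
  refine ⟨_, hmem, 1, (torus_wprod K _ [66, 68] (fun r hr => (pos_list_facts r (by
    simp only [List.mem_cons, List.not_mem_nil, or_false] at hr ⊢; omega)).1) t ?_).symm⟩
  intro r hr
  have hc := char_facts
  simp only [List.map_cons, List.map_nil, List.range_succ, List.range_zero, List.nil_append,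
    List.cons_append, List.cons.injEq, and_true] at hc
  obtain ⟨-, ⟨a0, a1, a2, a3, a4, a5⟩, ⟨b0, b1, b2, b3, b4, b5⟩, -⟩ := hc
  simp only [List.mem_cons, List.not_mem_nil, or_false] at hr
  rcases hr with rfl | rfl
  · rw [hchar 66 (pos_list_facts 66 (by simp)).1, a0, a1, a2, a3, a4, a5]
    simp [A, hne]
  · rw [hchar 68 (pos_list_facts 68 (by simp)).1, b0, b1, b2, b3, b4, b5, ← hf, hroot 66 (by simp)]
    simp [A, hne]

include hn hq in
theorem good2 : Good (twistE6 K hn hq) (targetSet K) (bset (e6Reps.getD 2 0)) (bset (e6Reps.getD 2 0)) := by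
  intro g hG _ _ hg hM
  obtain ⟨t, rfl, hne, hroot⟩ := state_coords K hn hq (L := [45, 59, 71]) (by decide +kernel) hG hg hM
  have hf : e6Sym.root 45 = 59 ∧ e6Sym.root 71 = 71 := by decide +kernel
  set A := Units.mk0 (t 45) (hne 45 (by simp))
  set C' := Units.mk0 (t 71) (hne 71 (by simp))
  have hC : C' ^ 2 ^ n = C' := by
    refine Units.ext ?_
    have := hroot 71 (by simp)
    rw [hf.2] at this
    simpa [C'] using this.symm
  obtain ⟨hmem, hchar⟩ := exists_char K hn (1 : Kˣ) C'⁻¹ (A * C')⁻¹ 1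
    (by rw [inv_pow, hC]) (one_pow _)
  refine ⟨_, hmem, 2, (torus_wprod K _ [45, 59, 71] (fun r hr => (pos_list_facts r (by
    simp only [List.mem_cons, List.not_mem_nil, or_false] at hr ⊢; omega)).1) t ?_).symm⟩
  intro r hr
  have hc := char_facts
  simp only [List.map_cons, List.map_nil, List.range_succ, List.range_zero, List.nil_append,
    List.cons_append, List.cons.injEq, and_true] at hc
  obtain ⟨⟨d0, d1, d2, d3, d4, d5⟩, -, -, ⟨a0, a1, a2, a3, a4, a5⟩, ⟨b0, b1, b2, b3, b4, b5⟩, -⟩ := hc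
  simp only [List.mem_cons, List.not_mem_nil, or_false] at hr
  rcases hr with rfl | rfl | rfl
  · rw [hchar 45 (pos_list_facts 45 (by simp)).1, a0, a1, a2, a3, a4, a5]
    simp [A, C', hne]
  · rw [hchar 59 (pos_list_facts 59 (by simp)).1, b0, b1, b2, b3, b4, b5, ← hf.1, hroot 45 (by simp)]
    rw [mul_inv, mul_pow, inv_pow, inv_pow, hC]
    simp [A, C', hne]
  · rw [hchar 71 (pos_list_facts 71 (by simp)).1, d0, d1, d2, d3, d4, d5]
    simp [C', hne]

/-- The state of three roots met on the way. -/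
def midMask : ℕ := 2 ^ 40 + 2 ^ 43 + 2 ^ 60

include hn hq in
theorem good_mid : Good (twistE6 K hn hq) (targetSet K) (bset midMask) (bset midMask) := by
  have h := good_frames (tab_ok K hn hq) (Tgt := targetSet K) (framesE6 K hn hq) [3, 2, 1, 0, 2, 1, 3]
    (by decide) (P := midMask) (M := midMask) (by decide +kernel) subset_rfl
  refine h ?_
  rw [show ([3, 2, 1, 0, 2, 1, 3].foldl (fun S i => tabE6.imMask i S) midMask) = e6Reps.getD 2 0 by
    decide +kernel]
  exact good2 K hn hq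

include hn hq in
theorem good3 : Good (twistE6 K hn hq) (targetSet K) (bset (e6Reps.getD 3 0)) (bset (e6Reps.getD 3 0)) := by
  intro g hG h1 h2 hg hM
  obtain ⟨t, hgt, hne, hroot⟩ := state_coords K hn hq (L := [40, 43, 60, 71]) (by decide +kernel) hG hg hM
  have hf : e6Sym.root 40 = 43 ∧ e6Sym.root 60 = 60 ∧ e6Sym.root 71 = 71 := by decide +kernel
  set A := Units.mk0 (t 40) (hne 40 (by simp))
  set B := Units.mk0 (t 60) (hne 60 (by simp))
  set C' := Units.mk0 (t 71) (hne 71 (by simp))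
  have hσ : ∀ r ∈ [60, 71], e6Sym.root r = r → ∀ h : t r ≠ 0, Units.mk0 (t r) h ^ 2 ^ n = Units.mk0 (t r) h := by
    intro r hr he h
    refine Units.ext ?_
    have := hroot r (by simp only [List.mem_cons, List.not_mem_nil, or_false] at hr ⊢; omega)
    rw [he] at this
    simpa using this.symm
  have hB : B ^ 2 ^ n = B := hσ 60 (by simp) hf.2.1 _
  have hC : C' ^ 2 ^ n = C' := hσ 71 (by simp) hf.2.2 _
  have hsqrt : ∀ u : Kˣ, u ^ 2 ^ n = u → ∃ e : Kˣ, e * e = u ∧ e ^ 2 ^ n = e := by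
    intro u hu
    obtain ⟨e, he⟩ := exists_pow_eq (F := K) (Or.inr rfl) (u : K)
    have he0 : e ≠ 0 := fun h => u.ne_zero (by rw [← he, h, zero_pow two_ne_zero])
    refine ⟨Units.mk0 e he0, Units.ext (by simpa [pow_two] using he), Units.ext ?_⟩
    have h2 : (e ^ 2 ^ n) ^ 2 = e ^ 2 := by
      rw [← pow_mul, mul_comm, pow_mul, he]
      exact (Units.val_pow_eq_pow_val _ _).symm.trans (congrArg Units.val hu)
    have h3 : (e ^ 2 ^ n + e) ^ 2 = 0 := by rw [CharTwo.add_sq, h2, CharTwo.add_self_eq_zero]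
    simpa using CharTwo.add_eq_zero.1 (pow_eq_zero_iff two_ne_zero |>.1 h3)
  have : ExpChar K 2 := ExpChar.prime Nat.prime_two
  have hp : ∀ u : Kˣ, (u ^ 2 ^ n) ^ 2 ^ n = u := unit_pow_sq K hn
  obtain ⟨e, he, he'⟩ := hsqrt (B⁻¹ * C'⁻¹) (by rw [mul_pow, inv_pow, inv_pow, hB, hC])
  obtain ⟨l, hl, hl'⟩ := hsqrt (A⁻¹ * (A⁻¹) ^ 2 ^ n) (by rw [mul_pow, hp, mul_comm])
  set μ := A⁻¹ * l⁻¹
  have hμ : μ * μ ^ 2 ^ n = 1 := by
    rw [mul_pow, inv_pow l, hl', show A⁻¹ * l⁻¹ * ((A⁻¹) ^ 2 ^ n * l⁻¹) =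
      A⁻¹ * (A⁻¹) ^ 2 ^ n * (l * l)⁻¹ by rw [mul_inv_rev]; ac_rfl, hl, mul_inv_cancel]
  obtain ⟨hmem, hchar⟩ := exists_char K hn (e * μ) C'⁻¹ 1 (l * C'⁻¹ * e)
    (by rw [inv_pow, hC]) (by rw [mul_pow, mul_pow, hl', inv_pow, hC, he'])
  have hμ' : μ ^ 2 ^ n = μ⁻¹ := eq_inv_of_mul_eq_one_right hμ
  have hμA : μ * l = A⁻¹ := by rw [show μ = A⁻¹ * l⁻¹ from rfl, inv_mul_cancel_right]
  have key := torus_wprod K (L := [40, 43, 60, 71]) (fun r hr => (pos_list_facts r (by
    simp only [List.mem_cons, List.not_mem_nil, or_false] at hr ⊢; omega)).1) t (fun r hr => ?_)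
      (c := cvec K n (e * μ) C'⁻¹ 1 (l * C'⁻¹ * e))
  swap
  · have hc := char_facts
    simp only [List.map_cons, List.map_nil, List.range_succ, List.range_zero, List.nil_append,
      List.cons_append, List.cons.injEq, and_true] at hc
    obtain ⟨⟨d0, d1, d2, d3, d4, d5⟩, -, -, -, -, ⟨a0, a1, a2, a3, a4, a5⟩, ⟨b0, b1, b2, b3, b4, b5⟩,
      c0, c1, c2, c3, c4, c5⟩ := hc
    have hval : ∀ (x : Kˣ) (u : Kˣ), x = u⁻¹ → (x : K) * (u : K) = 1 := by
      rintro x u rfl; exact Units.inv_mul u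
    simp only [List.mem_cons, List.not_mem_nil, or_false] at hr
    rcases hr with rfl | rfl | rfl | rfl
    · rw [hchar 40 (pos_list_facts 40 (by simp)).1, a0, a1, a2, a3, a4, a5]
      refine hval _ A ?_
      rw [mul_pow, he', hμ', ← hμA]
      simp only [zpow_zero, zpow_neg, zpow_one, one_mul, mul_one, inv_inv, one_pow, inv_one, mul_inv_rev]
      rw [show C' * (l * C'⁻¹ * e) * (μ * e⁻¹) = C' * C'⁻¹ * (e * e⁻¹) * (l * μ) by ac_rfl,
        mul_inv_cancel, mul_inv_cancel, one_mul, one_mul]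
      try ac_rfl
    · rw [hchar 43 (pos_list_facts 43 (by simp)).1, b0, b1, b2, b3, b4, b5, ← hf.1, hroot 40 (by simp)]
      rw [show (t 40 ^ 2 ^ n : K) = ((A ^ 2 ^ n : Kˣ) : K) by simp [A]]
      refine hval _ (A ^ 2 ^ n) ?_
      rw [← inv_pow A, ← hμA, mul_pow μ, hl', hμ']
      simp only [zpow_zero, zpow_neg, zpow_one, mul_one, inv_inv, one_pow, inv_one, mul_inv_rev]
      rw [show μ⁻¹ * e⁻¹ * C' * (l * C'⁻¹ * e) = C' * C'⁻¹ * (e * e⁻¹) * (l * μ⁻¹) by ac_rfl,
        mul_inv_cancel, mul_inv_cancel, one_mul, one_mul]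
      try ac_rfl
    · rw [hchar 60 (pos_list_facts 60 (by simp)).1, c0, c1, c2, c3, c4, c5]
      refine hval _ B ?_
      rw [mul_pow, he', hμ', show B⁻¹ = e * e * C' by rw [he, inv_mul_cancel_right]]
      simp only [zpow_zero, zpow_neg, zpow_one, mul_one, inv_inv]
      rw [show e * μ * C' * (e * μ⁻¹) = e * e * C' * (μ * μ⁻¹) by ac_rfl, mul_inv_cancel, mul_one]
    · rw [hchar 71 (pos_list_facts 71 (by simp)).1, d0, d1, d2, d3, d4, d5]
      refine hval _ C' ?_
      simp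
  -- three conjugations by positive elements
  have s1 := wprod_step K [48, 50] [40, 43, 60, 71] (collect chevE6 ([48, 50] ++ [40, 43, 60, 71] ++ [48, 50]))
    rfl (by decide +kernel)
  have s2 := wprod_step K [53] (collect chevE6 ([48, 50] ++ [40, 43, 60, 71] ++ [48, 50]))
    (collect chevE6 ([53] ++ collect chevE6 ([48, 50] ++ [40, 43, 60, 71] ++ [48, 50]) ++ [53]))
    rfl (by decide +kernel)
  have s3 := wprod_step K [63]
    (collect chevE6 ([53] ++ collect chevE6 ([48, 50] ++ [40, 43, 60, 71] ++ [48, 50]) ++ [53]))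
    [40, 43, 60] (by decide +kernel) (by decide +kernel)
  set y := wprod (coreE6 K) [63] * wprod (coreE6 K) [53] * wprod (coreE6 K) [48, 50] *
    (coreE6 K).R.torus (cvec K n (e * μ) C'⁻¹ 1 (l * C'⁻¹ * e)) with hy
  have horb := wprod_orbit_mem K hn hq
  have hyG : y ∈ (twistE6 K hn hq).G :=
    mul_mem (mul_mem (mul_mem (horb _ (by simp)) (horb _ (by simp))) (horb _ (by simp))) hmem
  have hyg : y * g * y⁻¹ = wprod (coreE6 K) [40, 43, 60] := by
    rw [← s3, ← s2, ← s1, ← key, ← hgt, hy]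
    group
  have hcl : (tabE6.stableB midMask && tabE6.topB midMask 40 && tabE6.topB midMask 43 &&
      tabE6.topB midMask 60 && decide (((List.range 72).filter fun r => midMask.testBit r) = [40, 43, 60])) = true := by
    decide +kernel
  simp only [Bool.and_eq_true, decide_eq_true_eq] at hcl
  obtain ⟨⟨⟨⟨hst, t40⟩, t43⟩, t60⟩, hfil⟩ := hcl
  have hok := tab_ok K hn hq
  have hmem' : ∀ r, r ∈ bset midMask ↔ r ∈ [40, 43, 60] := fun r => by
    rw [← hfil]
    exact (mem_bits hok (stableB_spec hok hst).1).symm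
  have hwd : wprod (coreE6 K) [40, 43, 60] = (coreE6 K).word [40, 43, 60] (fun _ => 1) := by
    simp [ChevCore.word, ChevCore.wordGL, wprod]
  refine (good_mid K hn hq).conj hG hyG h1 h2 ?_ fun m hm hbad => ?_
  · rw [hyg]
    refine Subgroup.list_prod_mem _ fun x hx => ?_
    obtain ⟨r, hr, rfl⟩ := List.mem_map.1 hx
    exact (coreE6 K).xGL_mem_Ucl ((hmem' r).2 hr) 1
  · have hT : Top chevE6 (bset midMask) m := by
      have := (hmem' m).1 hm
      simp only [List.mem_cons, List.not_mem_nil, or_false] at this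
      rcases this with rfl | rfl | rfl
      exacts [(topB_spec hok t40).2, (topB_spec hok t43).2, (topB_spec hok t60).2]
    rw [hyg, hwd] at hbad
    have h0 := hT.co_zero hbad
    rw [co_word K [40, 43, 60] (by decide) (fun r hr => (hmem' r).2 hr) hT, if_pos ((hmem' m).1 hm)] at h0
    exact one_ne_zero h0

include hn hq in
theorem exists_conj_rep {g : GL chevE6.Idx K} (hg : g ∈ twistedE6 K (2 ^ n)) (h2 : orderOf g = 2) :
    ∃ i : Fin 3, ∃ h ∈ twistedE6 K (2 ^ n), h * g * h⁻¹ = rep K i := by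
  have : ExpChar K 2 := ExpChar.prime Nat.prime_two
  have : Fact (Nat.Prime 2) := ⟨Nat.prime_two⟩
  set G1 := twistedE6 K (2 ^ n)
  set U := (chevE6.posUnipotent K ⊓ G1).subgroupOf G1
  have hU : Nat.card ↥U = (2 ^ n) ^ 36 := by
    rw [Nat.card_congr (Subgroup.subgroupOfEquivOfLe inf_le_right).toEquiv]
    refine Nat.pow_left_injective (show 2 ≠ 0 by norm_num) ?_
    show _ ^ 2 = _ ^ 2
    rw [(gensE6 K hn hq).card_U1, ncard_isPosRoot (N := 36) (by decide +kernel),
      Nat.card_eq_fintype_card, hn]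
    ring
  have hp : IsPGroup 2 ↥U := IsPGroup.of_card (n := n * 36) (by rw [hU, pow_mul])
  have hidx : ¬ 2 ∣ U.index := by
    intro hdvd
    have h := U.card_mul_index
    have hc := card_twistedE6 K hn hq
    rw [← h, hU, mul_left_comm] at hc
    simp only [mul_assoc] at hc
    have hi := Nat.eq_of_mul_eq_mul_left (by positivity) hc
    have hev : Even (2 ^ n) := (Nat.even_pow).2 ⟨even_two, by rintro rfl; simp at hq⟩
    have o1 : ∀ k, k ≠ 0 → Odd ((2 ^ n) ^ k - 1) := fun k hk => by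
      rw [Nat.odd_iff]
      have h1 : (2 ^ n) ^ k % 2 = 0 := Nat.even_iff.1 ((Nat.even_pow).2 ⟨hev, hk⟩)
      have h2 : 1 ≤ (2 ^ n) ^ k := Nat.one_le_pow _ _ (by positivity)
      omega
    have o2 : ∀ k, k ≠ 0 → Odd ((2 ^ n) ^ k + 1) := fun k hk => ((Nat.even_pow).2 ⟨hev, hk⟩).add_one
    refine Nat.not_even_iff_odd.2 ?_ (even_iff_two_dvd.2 (hdvd.mul_left (Nat.gcd 3 (2 ^ n + 1))))
    rw [hi]
    exact (o1 2 (by norm_num)).mul ((o2 5 (by norm_num)).mul ((o1 6 (by norm_num)).mul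
      ((o1 8 (by norm_num)).mul ((o2 9 (by norm_num)).mul (o1 12 (by norm_num))))))
  set P := hp.toSylow hidx
  have hx1 : IsPGroup 2 ↥(Subgroup.zpowers (⟨g, hg⟩ : ↥G1)) :=
    IsPGroup.of_card (n := 1) (by rw [Nat.card_zpowers, ← Subgroup.orderOf_coe, h2, pow_one])
  obtain ⟨Q, hQ⟩ := hx1.exists_le_sylow
  obtain ⟨k, hk⟩ := MulAction.exists_smul_eq (↥G1) Q P
  have hmem : k * ⟨g, hg⟩ * k⁻¹ ∈ (P : Subgroup ↥G1) := by
    rw [← hk, Sylow.coe_subgroup_smul]
    exact ⟨⟨g, hg⟩, hQ (Subgroup.mem_zpowers _), by simp [MulAut.conj_apply]⟩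
  obtain ⟨hu, hG⟩ := Subgroup.mem_inf.1 (Subgroup.mem_subgroupOf.1 hmem :
    (k : GL chevE6.Idx K) * g * (k : GL chevE6.Idx K)⁻¹ ∈ chevE6.posUnipotent K ⊓ G1)
  have hreps : ∀ j < e6Reps.length,
      Good (twistE6 K hn hq) (targetSet K) (bset (e6Reps.getD j 0)) (bset (e6Reps.getD j 0)) := by
    intro j hj
    rw [show e6Reps.length = 4 from rfl] at hj
    interval_cases j
    exacts [good0 K hn hq, good1 K hn hq, good2 K hn hq, good3 K hn hq]
  have h0 : (e6Nodes.getD 0 (0, 0, TStep.empty)).1 = tabE6.pos ∧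
      (e6Nodes.getD 0 (0, 0, TStep.empty)).2.1 = 0 := by decide +kernel
  have hgood := good_of_check (tab_ok K hn hq) (framesE6 K hn hq) e6_check hreps 0
    (by rw [length_e6Nodes]; norm_num)
  rw [h0.1, h0.2] at hgood
  have hgg : g * g = 1 := by rw [← sq, ← h2, pow_orderOf_eq_one]
  have hg1 : g ≠ 1 := fun e => by rw [e, orderOf_one] at h2; norm_num at h2
  obtain ⟨h, hh, i, hi⟩ := hgood.conj hg k.2 hg1 hgg ((coreE6 K).Ucl_mono (fun r hr =>
    mem_bset.2 ((e6_root_facts ⟨r, hr.1⟩).2.2.2 hr).2) ((coreE6 K).posUnipotent_eq ▸ hu))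
    (fun m hm => absurd (mem_bset.1 hm) (by simp))
  exact ⟨i, h, hh, hi.symm⟩

theorem rkSub_rep (i : Fin 3) : rkSub (rep K i) = [22, 32, 38].getD i.val 0 := by
  have P := InvolLaced.E6.certified
  have hlen : InvolLaced.E6.certified.targets.length = 3 := rfl
  have ht : ∀ j : Fin 3, rkSub (wprod (coreE6 K) (InvolLaced.E6.targets.getD j.val [])) =
      [22, 32, 38].getD j.val 0 := fun j =>
    InvolLaced.E6.certified.rkSub_target (coreE6 K) (hlen.symm ▸ j.isLt)
  fin_cases i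
  · exact ht 0
  · exact ht 1
  · have hrun : InvolLaced.runMoves chevE6 ([1, 3, 2, 0].map InvolLaced.Move.refl) [45, 59, 71] =
        InvolLaced.E6.targets.getD 2 [] := by decide +kernel
    obtain ⟨k, -, hk⟩ := InvolLaced.rel_runMoves (coreE6 K) InvolLaced.E6.laced
      ([1, 3, 2, 0].map InvolLaced.Move.refl) [45, 59, 71]
    rw [hrun] at hk
    have := ht 2
    rw [show ((2 : Fin 3) : ℕ) = 2 from rfl, ← hk, rkSub_conj] at this
    exact this

include hn hq in
/-- The number of classes of involutions. -/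
theorem involution_classes :
    (ConjClasses.mk '' {g : ↥(twistedE6 K (2 ^ n)) | orderOf g = 2}).ncard = 3 := by
  classical
  let f : Fin 3 → ConjClasses ↥(twistedE6 K (2 ^ n)) := fun i =>
    ConjClasses.mk ⟨rep K i, rep_mem K hn hq i⟩
  have hrk : ∀ i j, IsConj (⟨rep K i, rep_mem K hn hq i⟩ : ↥(twistedE6 K (2 ^ n)))
      ⟨rep K j, rep_mem K hn hq j⟩ → i = j := by
    intro i j h
    obtain ⟨c, hc⟩ := isConj_iff.1 h
    have e := congrArg Subtype.val hc
    have h1 := rkSub_rep K j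
    rw [← show ((c : GL chevE6.Idx K) * rep K i * (c : GL chevE6.Idx K)⁻¹) = rep K j from e, rkSub_conj,
      rkSub_rep K i] at h1
    revert h1
    fin_cases i <;> fin_cases j <;> simp
  have hinj : Function.Injective f := fun i j hij => hrk i j (ConjClasses.mk_eq_mk_iff_isConj.1 hij)
  have hord : ∀ i, orderOf (⟨rep K i, rep_mem K hn hq i⟩ : ↥(twistedE6 K (2 ^ n))) = 2 := by
    intro i
    rw [← Subgroup.orderOf_coe]
    have : Fact (Nat.Prime 2) := ⟨Nat.prime_two⟩
    refine orderOf_eq_prime ?_ fun e => ?_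
    · show rep K i ^ 2 = 1
      rw [sq, rep, ← wprod_append, ← wprod_collect (coreE6 K) InvolLaced.E6.laced]
      have hd : ∀ j : Fin 3, collect chevE6 (repLists.getD j.val [] ++ repLists.getD j.val []) = [] := by
        decide +kernel
      rw [hd i, wprod_nil]
    · have h1 := rkSub_rep K i
      rw [show rep K i = 1 from e, InvolLaced.rkSub_one] at h1
      revert h1
      fin_cases i <;> simp
  have himg : ConjClasses.mk '' {g : ↥(twistedE6 K (2 ^ n)) | orderOf g = 2} = Set.range f := by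
    refine Set.Subset.antisymm ?_ ?_
    · rintro _ ⟨g, hg, rfl⟩
      obtain ⟨i, h, hh, he⟩ := exists_conj_rep K hn hq g.2 (by rw [Subgroup.orderOf_coe]; exact hg)
      exact ⟨i, ConjClasses.mk_eq_mk_iff_isConj.2
        (IsConj.symm (isConj_iff.2 ⟨⟨h, hh⟩, Subtype.ext he⟩))⟩
    · rintro _ ⟨i, rfl⟩
      exact ⟨_, hord i, rfl⟩
  rw [himg, Set.ncard_range_of_injective hinj, Nat.card_fin]

end CfsgLib.InvolTwist
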