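import Cfsg.Agent.Lib.F4Invol.Descent

/-!
Coordinates at an indecomposable root of a closed set in characteristic two, and their change under
conjugation by a product of two root elements of a simply laced datum.
-/

set_option autoImplicit false
set_option linter.unusedSectionVars false

namespace CfsgLib.InvolTwist

open Cfsg.Lie CfsgLib.ChevStr CfsgLib.F4Invol
open scoped MatrixGroups

/-- A closed set and one of its roots that is not a sum inside it. -/
structure Top (D : ChevalleyDatum) (P : Set ℕ) (t : ℕ) : Prop where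
  closed : Closed2 D P
  mem : t ∈ P
  closed' : Closed2 D (P \ {t})
  step : ∀ u ∈ P, OddStep D u (P \ {t})

/-- The sums of pairs of roots, shifted by one, with the only odd commutator term of each pair. -/
structure Sums (D : ChevalleyDatum) (sm : ℕ → ℕ → ℕ) : Prop where
  self : ∀ r, r < D.nroots → sm r r = 0
  terms : ∀ r s, r < D.nroots → s < D.nroots → s ≠ r → s ≠ D.neg r →
    (sm r s = 0 ∧ oddTerms D r s = []) ∨ ∃ k z, sm r s = k + 1 ∧ oddTerms D r s = [(k, z, 1, 1)]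

variable {D : ChevalleyDatum} {F : Type*} [Field F] [CharP F 2] (C : ChevCore D F)

open Classical in
/-- The coordinate at `t` in the subgroup of `P`. -/
noncomputable def co (P : Set ℕ) (t : ℕ) (g : GL D.Idx F) : F :=
  if h : ∃ c, Coord C t (P \ {t}) g c then h.choose else 0

variable {C}

namespace Top

variable {P : Set ℕ} {t : ℕ} (T : Top D P t)

include T

theorem t_lt : t < D.nroots := (T.closed.pos t T.mem).1

theorem tQ : OddStep D t (P \ {t}) := T.step t T.mem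

theorem co_eq {g : GL D.Idx F} {c : F} (h : Coord C t (P \ {t}) g c) : co C P t g = c := by
  have he : ∃ c, Coord C t (P \ {t}) g c := ⟨c, h⟩
  rw [co, dif_pos he]
  have hd := mul_mem (show (C.xGL t he.choose)⁻¹ * g ∈ _ from he.choose_spec) (inv_mem h)
  rw [show (C.xGL t he.choose)⁻¹ * g * ((C.xGL t c)⁻¹ * g)⁻¹ = C.xGL t (he.choose + c) by
    rw [C.xGL_add, xGL_self_inv C t he.choose]; group] at hd
  exact CharTwo.add_eq_zero.1
    (indep C T.closed' (T.closed.pos t T.mem) (fun h => h.2 rfl) hd)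

theorem co_spec {g : GL D.Idx F} (hg : g ∈ C.Ucl P) : Coord C t (P \ {t}) g (co C P t g) := by
  obtain ⟨c, v, hv, hgv⟩ := exists_split C T.t_lt T.tQ hg
  have h : Coord C t (P \ {t}) g c := by rw [Coord, hgv, inv_mul_cancel_left]; exact hv
  rw [T.co_eq h]
  exact h

theorem co_zero {g : GL D.Idx F} (hg : g ∈ C.Ucl (P \ {t})) : co C P t g = 0 :=
  T.co_eq (coord_of_mem C hg)

theorem mem_of_co {g : GL D.Idx F} (hg : g ∈ C.Ucl P) (h : co C P t g = 0) :
    g ∈ C.Ucl (P \ {t}) := by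
  have := T.co_spec hg
  rw [h] at this
  simpa [Coord, C.xGL_zero] using this

theorem co_ne {g : GL D.Idx F} (hg : g ∈ C.Ucl P) (h : g ∉ C.Ucl (P \ {t})) : co C P t g ≠ 0 :=
  fun e => h (T.mem_of_co hg e)

theorem co_one : co C P t 1 = 0 := T.co_zero (one_mem _)

theorem co_mul {a b : GL D.Idx F} (ha : a ∈ C.Ucl P) (hb : b ∈ C.Ucl P) :
    co C P t (a * b) = co C P t a + co C P t b :=
  T.co_eq (coord_mul C T.t_lt T.tQ (T.co_spec ha) (T.co_spec hb))

theorem co_inv {a : GL D.Idx F} (ha : a ∈ C.Ucl P) : co C P t a⁻¹ = co C P t a := by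
  have h := T.co_mul (inv_mem ha) ha
  rw [inv_mul_cancel, T.co_one] at h
  exact CharTwo.add_eq_zero.1 h.symm

theorem co_xGL {u : ℕ} (hu : u ∈ P) (b : F) :
    co C P t (C.xGL u b) = if u = t then b else 0 := by
  split_ifs with h
  · subst h
    exact T.co_eq (coord_self C b)
  · exact T.co_zero (C.xGL_mem_Ucl (show u ∈ P \ {t} from ⟨hu, h⟩) b)

theorem co_mono {P2 : Set ℕ} (T2 : Top D P2 t) (h : P ⊆ P2) {g : GL D.Idx F} (hg : g ∈ C.Ucl P) :
    co C P2 t g = co C P t g :=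
  T2.co_eq (C.Ucl_mono (fun x hx => by exact ⟨h hx.1, hx.2⟩) (T.co_spec hg))

end Top

variable (C)

/-- Conjugation by the inverse of `y`. -/
def cj (y : GL D.Idx F) : GL D.Idx F →* GL D.Idx F := (MulAut.conj y⁻¹).toMonoidHom

theorem cj_apply (y g : GL D.Idx F) : cj y g = y⁻¹ * g * y := by simp [cj]

theorem cj_mul (y z g : GL D.Idx F) : cj (y * z) g = cj z (cj y g) := by
  simp only [cj_apply]; group

theorem cj_mem {S : Set ℕ} {s : ℕ} (hs : s < D.nroots) (h : OddStep D s S) (c : F) {g : GL D.Idx F}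
    (hg : g ∈ C.Ucl S) : cj (C.xGL s c) g ∈ C.Ucl S := by
  rw [cj_apply]; exact conj_mem C hs h c g hg

variable {C}

theorem cj_xGL_zero {sm : ℕ → ℕ → ℕ} (hsm : Sums D sm) {s u : ℕ} (hs : s < D.nroots)
    (hu : u < D.nroots) (hn : u ≠ D.neg s) (h : sm s u = 0) (c b : F) :
    cj (C.xGL s c) (C.xGL u b) = C.xGL u b := by
  rw [cj_apply]
  by_cases hus : u = s
  · subst hus
    rw [mul_assoc, ← C.xGL_add, add_comm b c, C.xGL_add, inv_mul_cancel_left]
  · rcases hsm.terms s u hs hu hus hn with ⟨-, he⟩ | ⟨k, z, hk, -⟩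
    · rw [xGL_conj_xGL C hs hu hus hn, commWord_eq C, he]
      simp [C.wordGL_nil]
    · omega

theorem cj_xGL_succ {sm : ℕ → ℕ → ℕ} (hsm : Sums D sm) {s u k : ℕ} (hs : s < D.nroots)
    (hu : u < D.nroots) (hn : u ≠ D.neg s) (h : sm s u = k + 1) (c b : F) :
    cj (C.xGL s c) (C.xGL u b) = C.xGL u b * C.xGL k (c * b) := by
  have hus : u ≠ s := fun e => by rw [e, hsm.self s hs] at h; omega
  rcases hsm.terms s u hs hu hus hn with ⟨h0, -⟩ | ⟨k', z, hk, he⟩
  · omega
  · obtain rfl : k' = k := by omega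
    rw [cj_apply, xGL_conj_xGL C hs hu hus hn, commWord_eq C, he]
    simp [C.wordGL_cons, C.wordGL_nil]

theorem sum_mem {sm : ℕ → ℕ → ℕ} (hsm : Sums D sm) {S : Set ℕ} {s u k : ℕ} (hs : s < D.nroots)
    (h : OddStep D s S) (hu : u ∈ S) (hk : sm s u = k + 1) : k ∈ S := by
  obtain ⟨hun, hn, hterm⟩ := h u hu
  have hus : u ≠ s := fun e => by rw [e, hsm.self s hs] at hk; omega
  rcases hsm.terms s u hs hun hus hn with ⟨h0, -⟩ | ⟨k', z, hk', he⟩
  · omega
  · obtain rfl : k' = k := by omega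
    exact hterm hus _ (by rw [he]; exact List.mem_cons_self ..)

/-- The coefficient of the change at `t` under conjugation by `x_s(c) x_{s'}(c')`. -/
def coef (sm : ℕ → ℕ → ℕ) (s s' t u : ℕ) (c c' : F) : F :=
  (if sm s u = t + 1 then c else 0) + (if sm s' u = t + 1 then c' else 0) +
    (if 0 < sm s u ∧ sm s' (sm s u - 1) = t + 1 then c * c' else 0)

/-- The change of the coordinate. -/
noncomputable def shift (C : ChevCore D F) (P : Set ℕ) (t : ℕ) (y g : GL D.Idx F) : F :=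
  co C P t (cj y g) + co C P t g

variable {P : Set ℕ} {t : ℕ}

theorem Top.shift_mul (T : Top D P t) {y : GL D.Idx F} (hy : ∀ g ∈ C.Ucl P, cj y g ∈ C.Ucl P)
    {a b : GL D.Idx F} (ha : a ∈ C.Ucl P) (hb : b ∈ C.Ucl P) :
    shift C P t y (a * b) = shift C P t y a + shift C P t y b := by
  rw [shift, map_mul, T.co_mul (hy a ha) (hy b hb), T.co_mul ha hb, shift, shift]
  abel

theorem Top.shift_zero_of_gen (T : Top D P t) {y : GL D.Idx F} (hy : ∀ g ∈ C.Ucl P, cj y g ∈ C.Ucl P)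
    {S : Set ℕ} (hS : S ⊆ P) (h : ∀ u ∈ S, ∀ b : F, shift C P t y (C.xGL u b) = 0) {g : GL D.Idx F}
    (hg : g ∈ C.Ucl S) : shift C P t y g = 0 := by
  suffices hh : g ∈ C.Ucl P ∧ shift C P t y g = 0 from hh.2
  refine Subgroup.closure_induction (p := fun g _ => g ∈ C.Ucl P ∧ shift C P t y g = 0) ?_ ?_ ?_ ?_ hg
  · rintro _ ⟨u, hu, b, rfl⟩
    exact ⟨C.xGL_mem_Ucl (hS hu) b, h u hu b⟩
  · exact ⟨one_mem _, by rw [shift, map_one, T.co_one, add_zero]⟩
  · rintro a b - - ⟨ha, ha'⟩ ⟨hb, hb'⟩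
    exact ⟨mul_mem ha hb, by rw [T.shift_mul hy ha hb, ha', hb', add_zero]⟩
  · rintro a - ⟨ha, ha'⟩
    refine ⟨inv_mem ha, ?_⟩
    rwa [shift, map_inv, T.co_inv (hy a ha), T.co_inv ha]

variable {sm : ℕ → ℕ → ℕ} {s s' : ℕ}

theorem pair_conj_mem (hs : s < D.nroots) (hs' : s' < D.nroots) (h : OddStep D s P)
    (h' : OddStep D s' P) (c c' : F) :
    ∀ g ∈ C.Ucl P, cj (C.xGL s c * C.xGL s' c') g ∈ C.Ucl P := fun g hg => by
  rw [cj_mul]; exact cj_mem C hs' h' c' (cj_mem C hs h c hg)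

theorem Top.shift_xGL (T : Top D P t) (hsm : Sums D sm) (hs : s < D.nroots) (hs' : s' < D.nroots)
    (h : OddStep D s P) (h' : OddStep D s' P) (c c' : F) {u : ℕ} (hu : u ∈ P) (b : F) :
    shift C P t (C.xGL s c * C.xGL s' c') (C.xGL u b) = coef sm s s' t u c c' * b := by
  obtain ⟨hun, hn, -⟩ := h u hu
  have hn' := (h' u hu).2.1
  have key : ∀ w ∈ P, ∀ e : F, shift C P t (C.xGL s' c') (C.xGL w e) =
      (if sm s' w = t + 1 then c' else 0) * e := by
    intro w hw e
    obtain ⟨hwn, hwneg, -⟩ := h' w hw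
    rcases Nat.eq_zero_or_pos (sm s' w) with h0 | hp
    · rw [shift, cj_xGL_zero hsm hs' hwn hwneg h0, CharTwo.add_self_eq_zero,
        if_neg (by omega), zero_mul]
    · obtain ⟨k, hk⟩ : ∃ k, sm s' w = k + 1 := ⟨sm s' w - 1, by omega⟩
      have hkP := sum_mem hsm hs' h' hw hk
      rw [shift, cj_xGL_succ hsm hs' hwn hwneg hk,
        T.co_mul (C.xGL_mem_Ucl hw _) (C.xGL_mem_Ucl hkP _), add_comm (co C P t (C.xGL w e)),
        add_assoc, CharTwo.add_self_eq_zero, add_zero, T.co_xGL hkP, hk]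
      simp only [Nat.add_right_cancel_iff]
      split_ifs <;> simp
  have hy' : ∀ g ∈ C.Ucl P, cj (C.xGL s' c') g ∈ C.Ucl P := fun g hg => cj_mem C hs' h' c' hg
  have hL2 : ∀ g, co C P t (cj (C.xGL s' c') g) = shift C P t (C.xGL s' c') g + co C P t g := by
    intro g
    rw [shift, add_assoc, CharTwo.add_self_eq_zero, add_zero]
  unfold coef
  rcases Nat.eq_zero_or_pos (sm s u) with h0 | hp
  · rw [shift, cj_mul, cj_xGL_zero hsm hs hun hn h0, hL2, key u hu, add_assoc,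
      CharTwo.add_self_eq_zero, add_zero, h0]
    simp
  · obtain ⟨k, hk⟩ : ∃ k, sm s u = k + 1 := ⟨sm s u - 1, by omega⟩
    have hkP := sum_mem hsm hs h hu hk
    rw [shift, cj_mul, cj_xGL_succ hsm hs hun hn hk, hL2,
      T.shift_mul hy' (C.xGL_mem_Ucl hu _) (C.xGL_mem_Ucl hkP _), key u hu, key k hkP,
      T.co_mul (C.xGL_mem_Ucl hu _) (C.xGL_mem_Ucl hkP _), T.co_xGL hkP, hk]
    simp only [Nat.add_sub_cancel, Nat.succ_pos, true_and, Nat.add_right_cancel_iff]
    have h2 : co C P t (C.xGL u b) + co C P t (C.xGL u b) = 0 := CharTwo.add_self_eq_zero _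
    split_ifs <;> linear_combination h2

theorem Top.shift_zero (T : Top D P t) (hsm : Sums D sm) (hs : s < D.nroots) (hs' : s' < D.nroots)
    (h : OddStep D s P) (h' : OddStep D s' P) (c c' : F) {S : Set ℕ} (hS : S ⊆ P)
    (h0 : ∀ u ∈ S, coef sm s s' t u c c' = 0) {g : GL D.Idx F} (hg : g ∈ C.Ucl S) :
    shift C P t (C.xGL s c * C.xGL s' c') g = 0 :=
  T.shift_zero_of_gen (pair_conj_mem hs hs' h h' c c') hS
    (fun u hu b => by rw [T.shift_xGL hsm hs hs' h h' c c' (hS hu), h0 u hu, zero_mul]) hg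

end CfsgLib.InvolTwist
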