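import Cfsg.Agent.Lib.InvolTwist.Coord

/-!
Descent steps for involutions fixed by an endomorphism permuting the root subgroups in orbits of
length at most two.
-/

set_option autoImplicit false
set_option linter.unusedSectionVars false

namespace CfsgLib.InvolTwist

open Cfsg.Lie CfsgLib.ChevStr CfsgLib.F4Invol
open scoped MatrixGroups

variable {D : ChevalleyDatum} {F : Type*} [Field F] [CharP F 2]

/-- A group of points fixed by a twisted endomorphism of order two. -/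
structure Twist (C : ChevCore D F) where
  root : ℕ → ℕ
  σ : F →+* F
  act : GL D.Idx F → GL D.Idx F
  G : Subgroup (GL D.Idx F)
  le : G ≤ D.group F
  root_lt : ∀ r, r < D.nroots → root r < D.nroots
  root_root : ∀ r, r < D.nroots → root (root r) = r
  σσ : ∀ x, σ (σ x) = x
  σ_ne : ∃ w, σ w ≠ w
  act_fix : ∀ g ∈ G, act g = g
  act_mul : ∀ a ∈ D.group F, ∀ b ∈ D.group F, act (a * b) = act a * act b
  act_x : ∀ r, r < D.nroots → ∀ t, act (C.xGL r t) = C.xGL (root r) (σ t)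
  pair_mem : ∀ r, D.IsPosRoot r → root r ≠ r → ∀ t, C.xGL r t * C.xGL (root r) (σ t) ∈ G
  fix_mem : ∀ r, D.IsPosRoot r → root r = r → ∀ t, σ t = t → C.xGL r t ∈ G

variable {C : ChevCore D F} (W : Twist C)

/-- A set of roots stable under the root map. -/
def Twist.Stable (P : Set ℕ) : Prop := ∀ u ∈ P, W.root u ∈ P

theorem Twist.act_one : W.act 1 = 1 := W.act_fix 1 (one_mem _)

theorem Ucl_le_group (S : Set ℕ) : C.Ucl S ≤ D.group F :=
  C.Ucl_le fun r _ t => C.xGL_mem_group r t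

theorem Twist.act_Ucl {S S' : Set ℕ} (hS : ∀ u ∈ S, u < D.nroots ∧ W.root u ∈ S') {g : GL D.Idx F}
    (hg : g ∈ C.Ucl S) : W.act g ∈ C.Ucl S' := by
  suffices h : g ∈ D.group F ∧ W.act g ∈ C.Ucl S' from h.2
  refine Subgroup.closure_induction (p := fun g _ => g ∈ D.group F ∧ W.act g ∈ C.Ucl S') ?_ ?_ ?_ ?_ hg
  · rintro _ ⟨u, hu, b, rfl⟩
    exact ⟨C.xGL_mem_group u b, by
      rw [W.act_x u (hS u hu).1]; exact C.xGL_mem_Ucl (hS u hu).2 _⟩
  · exact ⟨one_mem _, by rw [W.act_one]; exact one_mem _⟩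
  · rintro a b - - ⟨ha, ha'⟩ ⟨hb, hb'⟩
    exact ⟨mul_mem ha hb, by rw [W.act_mul a ha b hb]; exact mul_mem ha' hb'⟩
  · rintro a - ⟨ha, ha'⟩
    refine ⟨inv_mem ha, ?_⟩
    have h := W.act_mul a⁻¹ (inv_mem ha) a ha
    rw [inv_mul_cancel, W.act_one] at h
    rw [eq_inv_of_mul_eq_one_left h.symm]
    exact inv_mem ha'

/-- The coordinates of a fixed element follow the endomorphism. -/
theorem Twist.co_root {P : Set ℕ} {r : ℕ} (hst : W.Stable P) (T : Top D P r)
    (T' : Top D P (W.root r)) {g : GL D.Idx F} (hG : g ∈ W.G) (hg : g ∈ C.Ucl P) :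
    co C P (W.root r) g = W.σ (co C P r g) := by
  set v := (C.xGL r (co C P r g))⁻¹ * g with hv'
  have hv : v ∈ C.Ucl (P \ {r}) := T.co_spec hg
  have hgv : g = C.xGL r (co C P r g) * v := by rw [hv', mul_inv_cancel_left]
  have hact := W.act_mul _ (C.xGL_mem_group r (co C P r g)) v (Ucl_le_group _ hv)
  rw [← hgv, W.act_fix g hG, W.act_x r T.t_lt] at hact
  refine T'.co_eq ?_
  unfold Coord
  rw [show (C.xGL (W.root r) (W.σ (co C P r g)))⁻¹ * g = W.act v by
    rw [eq_comm, eq_inv_mul_iff_mul_eq]; exact hact.symm]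
  refine W.act_Ucl (S' := P \ {W.root r}) (fun u hu => ⟨(T.closed.pos u hu.1).1, hst u hu.1, fun e => hu.2 ?_⟩) hv
  have h := congrArg W.root (show W.root u = W.root r from e)
  rwa [W.root_root u (T.closed.pos u hu.1).1, W.root_root r T.t_lt] at h

/-- Every involution of the group in `U_P` outside the `U_{P - n}`, `n ∈ M`, is conjugate into `Tgt`. -/
def Good (Tgt : Set (GL D.Idx F)) (P M : Set ℕ) : Prop :=
  ∀ g ∈ W.G, g ≠ 1 → g * g = 1 → g ∈ C.Ucl P → (∀ n ∈ M, g ∉ C.Ucl (P \ {n})) →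
    ∃ h ∈ W.G, h * g * h⁻¹ ∈ Tgt

variable {W} {Tgt : Set (GL D.Idx F)}

theorem Good.mono {P M M' : Set ℕ} (h : Good W Tgt P M') (hM : M' ⊆ M) : Good W Tgt P M :=
  fun g hG h1 h2 hg hn => h g hG h1 h2 hg fun n hm => hn n (hM hm)

theorem Good.conj {P M : Set ℕ} (h : Good W Tgt P M) {g x : GL D.Idx F} (hg : g ∈ W.G)
    (hx : x ∈ W.G) (h1 : g ≠ 1) (h2 : g * g = 1) (hP : x * g * x⁻¹ ∈ C.Ucl P)
    (hM : ∀ n ∈ M, x * g * x⁻¹ ∉ C.Ucl (P \ {n})) : ∃ h ∈ W.G, h * g * h⁻¹ ∈ Tgt := by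
  obtain ⟨y, hy, hy'⟩ := h (x * g * x⁻¹) (mul_mem (mul_mem hx hg) (inv_mem hx))
    (fun e => h1 (conj_eq_one_iff.1 e))
    (by rw [show x * g * x⁻¹ * (x * g * x⁻¹) = x * (g * g) * x⁻¹ by group, h2, mul_one, mul_inv_cancel])
    hP hM
  exact ⟨y * x, mul_mem hy hx, by simpa [mul_assoc] using hy'⟩

theorem good_empty {P M : Set ℕ} (hP : P = ∅) : Good W Tgt P M := by
  intro g _ h1 _ hg _
  have : C.Ucl P ≤ ⊥ := C.Ucl_le fun r hr => by simp [hP] at hr
  exact absurd (this hg) h1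

variable (W) in
/-- A fixed element without a coordinate at `r` has none at the partner of `r`. -/
structure Twist.PairOK (P : Set ℕ) (r : ℕ) : Prop where
  stable : W.Stable P
  lt : r < D.nroots
  pos : D.IsPosRoot (W.root r)
  mem : r ∈ P
  closed : Closed2 D (P \ {W.root r})
  step : OddStep D (W.root r) ((P \ {r}) \ {W.root r})

theorem Twist.PairOK.drop {P : Set ℕ} {r : ℕ} (h : W.PairOK P r) (hP : ∀ u ∈ P, u < D.nroots)
    {g : GL D.Idx F} (hG : g ∈ W.G) (hg : g ∈ C.Ucl (P \ {r})) :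
    g ∈ C.Ucl ((P \ {r}) \ {W.root r}) := by
  by_cases hr : W.root r = r
  · rw [hr, sdiff_idem]; exact hg
  have hrn := W.root_lt r h.lt
  obtain ⟨e, v, hv, hgv⟩ := exists_split C hrn h.step hg
  have hmem : g ∈ C.Ucl (P \ {W.root r}) := by
    rw [← W.act_fix g hG]
    refine W.act_Ucl (S' := P \ {W.root r}) (fun u hu => ⟨hP u hu.1, h.stable u hu.1, fun e => hu.2 ?_⟩) hg
    have := congrArg W.root (show W.root u = W.root r from e)
    rwa [W.root_root u (hP u hu.1), W.root_root r h.lt] at this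
  have hv' : v ∈ C.Ucl (P \ {W.root r}) := C.Ucl_mono (fun x hx => by exact ⟨hx.1.1, hx.2⟩) hv
  have he : C.xGL (W.root r) e ∈ C.Ucl (P \ {W.root r}) := by
    have := mul_mem hmem (inv_mem hv')
    rwa [hgv, mul_inv_cancel_right] at this
  have hpos : D.IsPosRoot (W.root r) := h.pos
  have he0 := indep C h.closed hpos (fun h => h.2 rfl) he
  rw [hgv, he0, C.xGL_zero, one_mul]
  exact hv

/-- Case split on one orbit. -/
theorem good_branch {P M M' M₀ : Set ℕ} {r : ℕ} (h : W.PairOK P r) (hP : ∀ u ∈ P, u < D.nroots)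
    (hM' : M' ⊆ insert r (insert (W.root r) M)) (hM₀ : M₀ ⊆ M)
    (h0 : Good W Tgt ((P \ {r}) \ {W.root r}) M₀) (h1 : Good W Tgt P M') : Good W Tgt P M := by
  intro g hG hne hsq hg hM
  by_cases hr : g ∈ C.Ucl (P \ {r})
  · exact h0 g hG hne hsq (h.drop hP hG hr) fun n hn hmem =>
      hM n (hM₀ hn) (C.Ucl_mono (fun x hx => by exact ⟨hx.1.1.1, hx.2⟩) hmem)
  · refine h1 g hG hne hsq hg fun n hn => ?_
    rcases hM' hn with rfl | rfl | h'
    · exact hr
    · intro hmem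
      refine hr ?_
      rw [← W.act_fix g hG]
      refine W.act_Ucl (S' := P \ {r}) (fun u hu => ⟨hP u hu.1, h.stable u hu.1, fun e => hu.2 ?_⟩) hmem
      have := congrArg W.root (show W.root u = r from e)
      rwa [W.root_root u (hP u hu.1)] at this
    · exact hM n h'

variable (W) in
/-- The conditions common to the killing steps. -/
structure KillOK (sm : ℕ → ℕ → ℕ) (P P2 M M2 : Set ℕ) (s r t : ℕ) : Prop where
  stable : W.Stable P
  stable2 : W.Stable P2
  sub : P ⊆ P2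
  top2 : Top D P2 t
  spos : D.IsPosRoot s
  step : OddStep D s P2
  step' : OddStep D (W.root s) P2
  topr : Top D P r
  rM : r ∈ M
  pairt : W.root t ≠ t → W.PairOK P2 t
  keep : ∀ n ∈ M2, n ∈ M ∧ Top D P n ∧ Top D P2 n ∧ ∀ u ∈ P,
    sm s u ≠ n + 1 ∧ sm (W.root s) u ≠ n + 1 ∧ (0 < sm s u → sm (W.root s) (sm s u - 1) ≠ n + 1)

variable {sm : ℕ → ℕ → ℕ} {P P2 M M2 : Set ℕ} {s r t : ℕ}

/-- The parameter of the second root of a conjugating element. -/
def second (W : Twist C) (s : ℕ) (c : F) : F := if W.root s = s then 0 else W.σ c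

theorem conjElt_mem (hsp : D.IsPosRoot s) {c : F} (hc : W.root s = s → W.σ c = c) :
    C.xGL s c * C.xGL (W.root s) (second W s c) ∈ W.G := by
  unfold second
  split_ifs with h
  · rw [C.xGL_zero, mul_one]; exact W.fix_mem s hsp h c (hc h)
  · exact W.pair_mem s hsp h c

/-- A killing step, given a parameter that cancels the coordinate at `t`. -/
theorem good_kill_core (hsm : Sums D sm) (K : KillOK W sm P P2 M M2 s r t)
    (child : Good W Tgt ((P2 \ {t}) \ {W.root t}) M2)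
    (hc : ∀ g ∈ W.G, g * g = 1 → g ∈ C.Ucl P → g ∉ C.Ucl (P \ {r}) →
      ∃ c, (W.root s = s → W.σ c = c) ∧
        shift C P2 t (C.xGL s c * C.xGL (W.root s) (second W s c)) g = co C P2 t g) :
    Good W Tgt P M := by
  intro g hG hne hsq hg hM
  obtain ⟨c, hcσ, hshift⟩ := hc g hG hsq hg (hM r K.rM)
  set y := C.xGL s c * C.xGL (W.root s) (second W s c) with hy
  have hyG : y ∈ W.G := conjElt_mem K.spos hcσ
  have hs : s < D.nroots := K.spos.1
  have hs' : W.root s < D.nroots := W.root_lt s hs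
  have hg2 : g ∈ C.Ucl P2 := C.Ucl_mono K.sub hg
  have hmem : cj y g ∈ C.Ucl P2 := pair_conj_mem hs hs' K.step K.step' _ _ g hg2
  have hgy : cj y g ∈ W.G := by
    rw [cj_apply]; exact mul_mem (mul_mem (inv_mem hyG) hG) hyG
  have h0 : cj y g ∈ C.Ucl (P2 \ {t}) := by
    refine K.top2.mem_of_co hmem ?_
    rw [shift] at hshift
    exact add_right_cancel (hshift.trans (zero_add _).symm)
  have h1 : cj y g ∈ C.Ucl ((P2 \ {t}) \ {W.root t}) := by
    by_cases ht : W.root t = t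
    · rw [ht, sdiff_idem]; exact h0
    · exact (K.pairt ht).drop (fun u hu => (K.top2.closed.pos u hu).1) hgy h0
  refine child.conj hG (inv_mem hyG) hne hsq (by simpa [cj_apply] using h1) fun n hn hbad => ?_
  obtain ⟨hnM, hT, hT2, hhit⟩ := K.keep n hn
  have hbad0 : cj y g ∈ C.Ucl (((P2 \ {t}) \ {W.root t}) \ {n}) := by simpa [cj_apply] using hbad
  have hbad' : cj y g ∈ C.Ucl (P2 \ {n}) :=
    C.Ucl_mono (fun x hx => by exact ⟨hx.1.1.1, hx.2⟩) hbad0
  have hz : shift C P2 n y g = 0 := by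
    refine hT2.shift_zero hsm hs hs' K.step K.step' _ _ K.sub (fun u hu => ?_) hg
    obtain ⟨e1, e2, e3⟩ := hhit u hu
    unfold coef
    rw [if_neg e1, if_neg e2, if_neg (fun h => e3 h.1 h.2), add_zero, add_zero]
  rw [shift, hT2.co_zero hbad', zero_add, hT.co_mono hT2 K.sub hg] at hz
  exact hT.co_ne hg (hM n hnM) hz

/-- The change at `t` of an element, all contributions coming from one root. -/
theorem shift_one (hsm : Sums D sm) (K : KillOK W sm P P2 M M2 s r t) (c c' : F)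
    (h0 : ∀ u ∈ P, u ≠ r → coef sm s (W.root s) t u c c' = 0) {g : GL D.Idx F} (hg : g ∈ C.Ucl P) :
    shift C P2 t (C.xGL s c * C.xGL (W.root s) c') g =
      coef sm s (W.root s) t r c c' * co C P r g := by
  have hs := K.spos.1
  have hs' := W.root_lt s hs
  have hy := pair_conj_mem (C := C) hs hs' K.step K.step' c c'
  have hv : (C.xGL r (co C P r g))⁻¹ * g ∈ C.Ucl (P \ {r}) := K.topr.co_spec hg
  conv_lhs => rw [← mul_inv_cancel_left (C.xGL r (co C P r g)) g]
  rw [K.top2.shift_mul hy (C.xGL_mem_Ucl (K.sub K.topr.mem) _)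
      (C.Ucl_mono (fun x hx => K.sub hx.1) hv),
    K.top2.shift_xGL hsm hs hs' K.step K.step' c c' (K.sub K.topr.mem),
    K.top2.shift_zero hsm hs hs' K.step K.step' c c' (fun x hx => K.sub hx.1)
      (fun u hu => h0 u hu.1 hu.2) hv, add_zero]

/-- The coordinate at `t`, in either set. -/
theorem co_fixed_t (K : KillOK W sm P P2 M M2 s r t) (ht : W.root t = t) {g : GL D.Idx F}
    (hG : g ∈ W.G) (hg : g ∈ C.Ucl P) : W.σ (co C P2 t g) = co C P2 t g := by
  have := W.co_root K.stable2 K.top2 (by rw [ht]; exact K.top2) hG (C.Ucl_mono K.sub hg)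
  rw [ht] at this
  exact this.symm

theorem co_fixed_r (K : KillOK W sm P P2 M M2 s r t) (hr : W.root r = r) {g : GL D.Idx F}
    (hG : g ∈ W.G) (hg : g ∈ C.Ucl P) : W.σ (co C P r g) = co C P r g := by
  have := W.co_root K.stable K.topr (by rw [hr]; exact K.topr) hG hg
  rw [hr] at this
  exact this.symm

/-- Killing by the first root of the conjugating pair. -/
theorem good_kill_single (hsm : Sums D sm) (K : KillOK W sm P P2 M M2 s r t)
    (child : Good W Tgt ((P2 \ {t}) \ {W.root t}) M2)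
    (hfix : W.root s = s → W.root r = r ∧ W.root t = t)
    (h1 : sm s r = t + 1) (h2 : W.root s ≠ s → sm (W.root s) r ≠ t + 1 ∧
      (0 < sm s r → sm (W.root s) (sm s r - 1) ≠ t + 1))
    (h0 : ∀ u ∈ P, u ≠ r → sm s u ≠ t + 1 ∧ (W.root s ≠ s → sm (W.root s) u ≠ t + 1 ∧
      (0 < sm s u → sm (W.root s) (sm s u - 1) ≠ t + 1))) :
    Good W Tgt P M := by
  refine good_kill_core hsm K child fun g hG _ hg hr => ?_
  have ha := K.topr.co_ne hg hr
  refine ⟨co C P2 t g / co C P r g, fun hs => ?_, ?_⟩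
  · rw [map_div₀, co_fixed_t K (hfix hs).2 hG hg, co_fixed_r K (hfix hs).1 hG hg]
  · have hpart : ∀ u, (W.root s ≠ s → sm (W.root s) u ≠ t + 1 ∧
        (0 < sm s u → sm (W.root s) (sm s u - 1) ≠ t + 1)) →
        ∀ c : F, coef sm s (W.root s) t u c (second W s c) = if sm s u = t + 1 then c else 0 := by
      intro u hu c
      unfold coef second
      by_cases hs : W.root s = s
      · simp [hs]
      · obtain ⟨e2, e3⟩ := hu hs
        rw [if_neg e2, if_neg (show ¬ (0 < sm s u ∧ _) from fun h => e3 h.1 h.2)]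
        simp
    rw [shift_one hsm K _ _ (fun u hu hur => by
      rw [hpart u (h0 u hu hur).2, if_neg (h0 u hu hur).1]) hg, hpart r h2, if_pos h1,
      div_mul_cancel₀ _ ha]

/-- Killing a fixed coordinate by a norm. -/
theorem good_kill_norm [Finite F] (hsm : Sums D sm) (K : KillOK W sm P P2 M M2 s r t)
    (child : Good W Tgt ((P2 \ {t}) \ {W.root t}) M2)
    (hs : W.root s ≠ s) (hr : W.root r = r) (ht : W.root t = t)
    (h : ∀ u ∈ P, sm s u ≠ t + 1 ∧ sm (W.root s) u ≠ t + 1 ∧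
      ((0 < sm s u ∧ sm (W.root s) (sm s u - 1) = t + 1) ↔ u = r)) :
    Good W Tgt P M := by
  refine good_kill_core hsm K child fun g hG _ hg hr' => ?_
  have ha := K.topr.co_ne hg hr'
  obtain ⟨c, hc⟩ := exists_pow_eq (F := F) (Or.inr rfl) (co C P2 t g / co C P r g)
  have hσ : W.σ c = c := by
    have h2 : W.σ c ^ 2 = c ^ 2 := by
      rw [← map_pow, hc, map_div₀, co_fixed_t K ht hG hg, co_fixed_r K hr hG hg]
    exact sub_eq_zero.1 (pow_eq_zero_iff two_ne_zero |>.1 (by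
      rw [CharTwo.sub_eq_add, CharTwo.add_sq, h2, CharTwo.add_self_eq_zero]))
  refine ⟨c, fun e => absurd e hs, ?_⟩
  rw [shift_one hsm K _ _ (fun u hu hur => ?_) hg]
  · obtain ⟨e1, e2, e3⟩ := h r K.topr.mem
    unfold coef second
    rw [if_neg e1, if_neg e2, if_pos (e3.2 rfl), if_neg hs, hσ, zero_add, zero_add, ← pow_two, hc,
      div_mul_cancel₀ _ ha]
  · obtain ⟨e1, e2, e3⟩ := h u hu
    unfold coef
    rw [if_neg e1, if_neg e2, if_neg (fun hh => hur (e3.1 hh)), add_zero, add_zero]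

theorem exists_trace {d : F} (hd : W.σ d = d) : ∃ u, u + W.σ u = d := by
  obtain ⟨w, hw⟩ := W.σ_ne
  have hne : w + W.σ w ≠ 0 := fun e => hw (CharTwo.add_eq_zero.1 e).symm
  refine ⟨d * w / (w + W.σ w), ?_⟩
  rw [map_div₀, map_mul, hd, map_add, W.σσ, add_comm (W.σ w) w, ← add_div, ← mul_add,
    mul_div_assoc, div_self hne, mul_one]

/-- Killing a fixed coordinate by a trace. -/
theorem good_kill_trace (hsm : Sums D sm) (K : KillOK W sm P P2 M M2 s r t)
    (child : Good W Tgt ((P2 \ {t}) \ {W.root t}) M2)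
    (hs : W.root s ≠ s) (hr : W.root r ≠ r) (ht : W.root t = t) (topr' : Top D P (W.root r))
    (hstep : OddStep D (W.root r) ((P \ {r}) \ {W.root r}))
    (h : ∀ u ∈ P, (sm s u = t + 1 ↔ u = r) ∧ (sm (W.root s) u = t + 1 ↔ u = W.root r) ∧
      ¬ (0 < sm s u ∧ sm (W.root s) (sm s u - 1) = t + 1)) :
    Good W Tgt P M := by
  refine good_kill_core hsm K child fun g hG _ hg hr' => ?_
  set a := co C P r g with hadef
  have ha : a ≠ 0 := K.topr.co_ne hg hr'
  obtain ⟨u0, hu0⟩ := exists_trace (co_fixed_t K ht hG hg)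
  refine ⟨u0 / a, fun e => absurd e hs, ?_⟩
  have hsl := K.spos.1
  have hs' := W.root_lt s hsl
  have hy := pair_conj_mem (C := C) hsl hs' K.step K.step' (u0 / a) (second W s (u0 / a))
  have hv : (C.xGL r a)⁻¹ * g ∈ C.Ucl (P \ {r}) := K.topr.co_spec hg
  obtain ⟨e, w, hw, hvw⟩ := exists_split C topr'.t_lt hstep hv
  have hgw : g = C.xGL r a * (C.xGL (W.root r) e * w) := by rw [← hvw, mul_inv_cancel_left]
  have he : e = W.σ a := by
    rw [hadef, ← W.co_root K.stable K.topr topr' hG hg]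
    refine (topr'.co_eq ?_).symm
    have hwQ : w ∈ C.Ucl (P \ {W.root r}) := C.Ucl_mono (fun x hx => by exact ⟨hx.1.1, hx.2⟩) hw
    have hrQ : C.xGL r a ∈ C.Ucl (P \ {W.root r}) :=
      C.xGL_mem_Ucl (show r ∈ P \ {W.root r} from ⟨K.topr.mem, fun h => hr h.symm⟩) _
    have := coord_mul C topr'.t_lt topr'.tQ (coord_of_mem C hrQ)
      (coord_mul C topr'.t_lt topr'.tQ (coord_self C e) (coord_of_mem C hwQ))
    rwa [zero_add, add_zero, ← hgw] at this
  have hr2 : W.root r ∈ P := K.stable r K.topr.mem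
  have hwP : w ∈ C.Ucl P2 := C.Ucl_mono (fun x hx => K.sub hx.1.1) hw
  obtain ⟨a1, a2, a3⟩ := h r K.topr.mem
  obtain ⟨b1, b2, b3⟩ := h _ hr2
  have hne1 : ¬ sm (W.root s) r = t + 1 := fun hh => hr (a2.1 hh).symm
  have hne2 : ¬ sm s (W.root r) = t + 1 := fun hh => hr (b1.1 hh)
  conv_lhs => rw [hgw]
  rw [K.top2.shift_mul hy (C.xGL_mem_Ucl (K.sub K.topr.mem) _)
      (mul_mem (C.xGL_mem_Ucl (K.sub hr2) _) hwP),
    K.top2.shift_mul hy (C.xGL_mem_Ucl (K.sub hr2) _) hwP,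
    K.top2.shift_xGL hsm hsl hs' K.step K.step' _ _ (K.sub K.topr.mem),
    K.top2.shift_xGL hsm hsl hs' K.step K.step' _ _ (K.sub hr2),
    K.top2.shift_zero hsm hsl hs' K.step K.step' _ _ (fun x hx => K.sub hx.1.1) (fun u hu => ?_) hw]
  · unfold coef second
    rw [if_pos (a1.2 rfl), if_neg hne1, if_neg a3, if_neg hne2, if_pos (b2.2 rfl), if_neg b3,
      if_neg hs, he, map_div₀]
    have hσa : W.σ a ≠ 0 := by simpa using ha
    rw [← hu0, add_zero, add_zero, zero_add, add_zero, add_zero, div_mul_cancel₀ _ ha,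
      div_mul_cancel₀ _ hσa]
  · obtain ⟨e1, e2, e3⟩ := h u hu.1.1
    unfold coef
    rw [if_neg (fun hh => hu.1.2 (e1.1 hh)), if_neg (fun hh => hu.2 (e2.1 hh)), if_neg e3,
      add_zero, add_zero]

variable (W) in
/-- The conditions of the relation at `T` between the orbits of `r` and `t`. -/
structure RelOK (sm : ℕ → ℕ → ℕ) (P : Set ℕ) (r t T : ℕ) : Prop where
  topt : Top D P t
  topr' : Top D P (W.root r)
  topt' : Top D P (W.root t)
  dist : [r, W.root r, t, W.root t].Nodup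
  top : Top D ((((P \ {r}) \ {W.root r}) \ {t}) \ {W.root t}) T
  split2 : OddStep D (W.root r) ((P \ {r}) \ {W.root r})
  split3 : OddStep D t (((P \ {r}) \ {W.root r}) \ {t})
  stepX : ∀ u ∈ [r, W.root r, t, W.root t],
    OddStep D u ((((P \ {r}) \ {W.root r}) \ {t}) \ {W.root t}) ∧
    OddStep D u (((((P \ {r}) \ {W.root r}) \ {t}) \ {W.root t}) \ {T}) ∧
    ∀ v ∈ (((P \ {r}) \ {W.root r}) \ {t}) \ {W.root t}, sm u v ≠ T + 1
  e12 : sm r (W.root r) = 0
  e13 : sm r t = 0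
  e24 : sm (W.root r) (W.root t) = 0
  e34 : sm t (W.root t) = 0
  e14 : sm r (W.root t) = T + 1
  e23 : sm (W.root r) t = T + 1

/-- An involution relates two pairs of coordinates whose sums meet in one fixed root. -/
theorem relation (hsm : Sums D sm) (hst : W.Stable P) (Tr : Top D P r) {T : ℕ}
    (R : RelOK W sm P r t T) {g : GL D.Idx F} (hG : g ∈ W.G) (hsq : g * g = 1) (hg : g ∈ C.Ucl P) :
    W.σ (co C P r g) * co C P t g + co C P r g * W.σ (co C P t g) = 0 := by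
  set r' := W.root r
  set t' := W.root t
  set S := (((P \ {r}) \ {r'}) \ {t}) \ {t'} with hSdef
  set a := co C P r g with hadef
  set d := co C P t g with hddef
  have hd := R.dist
  simp only [List.nodup_cons, List.mem_cons, List.not_mem_nil, or_false, not_or,
    List.nodup_nil, and_true, not_false_eq_true] at hd
  obtain ⟨⟨n12, n13, n14⟩, ⟨n23, n24⟩, n34⟩ := hd
  have hr' : r' ∈ P := hst r Tr.mem
  have ht' : t' ∈ P := hst t R.topt.mem
  have hSP : S ⊆ P := fun x hx => hx.1.1.1.1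
  have sX := fun {u : ℕ} (hu : u ∈ [r, r', t, t']) => (R.stepX u hu)
  obtain ⟨sr, -, nr⟩ := sX (u := r) (by simp)
  obtain ⟨sr', -, nr'⟩ := sX (u := r') (by simp)
  obtain ⟨st, -, nt⟩ := sX (u := t) (by simp)
  obtain ⟨st', -, nt'⟩ := sX (u := t') (by simp)
  -- decomposition
  obtain ⟨v1, hv1, hg1⟩ : ∃ v ∈ C.Ucl (P \ {r}), g = C.xGL r a * v :=
    ⟨_, Tr.co_spec hg, (mul_inv_cancel_left _ _).symm⟩
  obtain ⟨e2, v2, hv2, hg2⟩ := exists_split C R.topr'.t_lt R.split2 hv1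
  obtain ⟨e3, v3, hv3, hg3⟩ := exists_split C R.topt.t_lt R.split3 hv2
  obtain ⟨e4, w, hw, hg4⟩ := exists_split C R.topt'.t_lt st' hv3
  have hgw : g = C.xGL r a * (C.xGL r' e2 * (C.xGL t e3 * (C.xGL t' e4 * w))) := by
    rw [hg1, hg2, hg3, hg4]
  have hwP : w ∈ C.Ucl P := C.Ucl_mono hSP hw
  have mr := C.xGL_mem_Ucl (S := P) Tr.mem a
  have mr' := C.xGL_mem_Ucl (S := P) hr' e2
  have mt := C.xGL_mem_Ucl (S := P) R.topt.mem e3
  have mt' := C.xGL_mem_Ucl (S := P) ht' e4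
  have coords : ∀ {k : ℕ}, Top D P k → k ∉ S → co C P k g = (if r = k then a else 0) +
      ((if r' = k then e2 else 0) + ((if t = k then e3 else 0) + (if t' = k then e4 else 0))) := by
    intro k Tk hk
    rw [hgw, Tk.co_mul mr (mul_mem mr' (mul_mem mt (mul_mem mt' hwP))),
      Tk.co_mul mr' (mul_mem mt (mul_mem mt' hwP)), Tk.co_mul mt (mul_mem mt' hwP),
      Tk.co_mul mt' hwP, Tk.co_xGL Tr.mem, Tk.co_xGL hr', Tk.co_xGL R.topt.mem, Tk.co_xGL ht',
      Tk.co_zero (C.Ucl_mono (fun x hx => by exact ⟨hSP hx, fun e => hk (e ▸ hx)⟩) hw), add_zero]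
  have h2 : e2 = W.σ a := by
    have := coords R.topr' (fun h => h.1.1.2 rfl)
    rw [if_neg n12, if_pos rfl, if_neg (Ne.symm n23), if_neg (Ne.symm n24)] at this
    rw [W.co_root hst Tr R.topr' hG hg] at this
    simpa using this.symm
  have h3 : e3 = d := by
    have := coords R.topt (fun h => h.1.2 rfl)
    rw [if_neg n13, if_neg n23, if_pos rfl, if_neg (Ne.symm n34)] at this
    simpa using this.symm
  have h4 : e4 = W.σ d := by
    have := coords R.topt' (fun h => h.2 rfl)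
    rw [if_neg n14, if_neg n24, if_neg n34, if_pos rfl] at this
    rw [W.co_root hst R.topt R.topt' hG hg] at this
    simpa using this.symm
  subst h2 h3 h4
  set X := C.xGL r a * C.xGL r' (W.σ a) with hX
  set Y := C.xGL t d * C.xGL t' (W.σ d) with hY
  have hrn := Tr.t_lt
  have hr'n := R.topr'.t_lt
  have htn := R.topt.t_lt
  have ht'n := R.topt'.t_lt
  have hposne : ∀ {u v : ℕ}, u ∈ P → v ∈ P → v ≠ D.neg u := fun {u v} hu hv e =>
    C.R.not_pos_and_neg (Tr.closed.pos _ hv) (by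
      rw [e, C.R.isNeg_neg_iff (Tr.closed.pos _ hu).1]; exact Tr.closed.pos _ hu)
  have hcomm : ∀ {u v : ℕ} (b c : F), u ∈ P → v ∈ P → sm u v = 0 →
      C.xGL v c * C.xGL u b = C.xGL u b * C.xGL v c := by
    intro u v b c hu hv h0
    have := cj_xGL_zero (C := C) hsm (Tr.closed.pos u hu).1 (Tr.closed.pos v hv).1 (hposne hu hv) h0 b c
    rw [cj_apply] at this
    calc C.xGL v c * C.xGL u b = C.xGL u b * ((C.xGL u b)⁻¹ * C.xGL v c * C.xGL u b) := by group
      _ = _ := by rw [this]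
  have sq : ∀ {u v : ℕ} (b c : F), u ∈ P → v ∈ P → sm u v = 0 →
      C.xGL u b * C.xGL v c * (C.xGL u b * C.xGL v c) = 1 := by
    intro u v b c hu hv h0
    rw [show C.xGL u b * C.xGL v c * (C.xGL u b * C.xGL v c) =
        C.xGL u b * (C.xGL v c * C.xGL u b) * C.xGL v c by group, hcomm b c hu hv h0,
      show C.xGL u b * (C.xGL u b * C.xGL v c) * C.xGL v c =
        C.xGL u b * C.xGL u b * (C.xGL v c * C.xGL v c) by group,
      ← C.xGL_add, ← C.xGL_add, CharTwo.add_self_eq_zero, CharTwo.add_self_eq_zero, C.xGL_zero,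
      C.xGL_zero, one_mul]
  have hX2 : X * X = 1 := sq _ _ Tr.mem hr' R.e12
  have hY2 : Y * Y = 1 := sq _ _ R.topt.mem ht' R.e34
  have hcX : ∀ z ∈ C.Ucl S, cj X z ∈ C.Ucl S := pair_conj_mem hrn hr'n sr sr' _ _
  have hcY : ∀ z ∈ C.Ucl S, cj Y z ∈ C.Ucl S := pair_conj_mem htn ht'n st st' _ _
  have zero_co : ∀ {u v : ℕ}, u < D.nroots → v < D.nroots → OddStep D u S → OddStep D v S →
      (∀ z ∈ S, sm u z ≠ T + 1) → (∀ z ∈ S, sm v z ≠ T + 1) → ∀ (b c : F), ∀ z ∈ C.Ucl S,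
        co C S T (cj (C.xGL u b * C.xGL v c) z) = co C S T z := by
    intro u v hu hv hsu hsv nu nv b c z hz
    have h := R.top.shift_zero (C := C) hsm hu hv hsu hsv b c (S := S) (fun x hx => hx)
      (fun x hx => ?_) hz
    · exact CharTwo.add_eq_zero.1 h
    · unfold coef
      rw [if_neg (nu x hx), if_neg (nv x hx), if_neg, add_zero, add_zero]
      rintro ⟨hp, hh⟩
      obtain ⟨k, hk⟩ : ∃ k, sm u x = k + 1 := ⟨sm u x - 1, by omega⟩
      rw [hk, Nat.add_sub_cancel] at hh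
      exact nv k (sum_mem hsm hu hsu hx hk) hh
  -- the conjugates of the two factors of `Y` by `X`
  have hK : ∀ (k : ℕ) (b : F), k ∈ P → ∀ (c : F), (sm r k = 0 ∧ sm r' k = T + 1 ∧ c = W.σ a) ∨
      (sm r k = T + 1 ∧ sm r' k = 0 ∧ c = a) →
      ∃ K ∈ C.Ucl S, cj X (C.xGL k b) = C.xGL k b * K ∧ co C S T K = c * b := by
    intro k b hk c hc
    have hkn := (Tr.closed.pos k hk).1
    rcases hc with ⟨h0, h1, rfl⟩ | ⟨h1, h0, rfl⟩
    · refine ⟨C.xGL T (W.σ a * b), C.xGL_mem_Ucl R.top.mem _, ?_, ?_⟩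
      · rw [hX, cj_mul, cj_xGL_zero hsm hrn hkn (hposne Tr.mem hk) h0,
          cj_xGL_succ hsm hr'n hkn (hposne hr' hk) h1]
      · rw [R.top.co_xGL R.top.mem, if_pos rfl]
    · refine ⟨cj (C.xGL r' (W.σ a)) (C.xGL T (a * b)),
        cj_mem C hr'n sr' _ (C.xGL_mem_Ucl R.top.mem _), ?_, ?_⟩
      · rw [hX, cj_mul, cj_xGL_succ hsm hrn hkn (hposne Tr.mem hk) h1, map_mul,
          cj_xGL_zero hsm hr'n hkn (hposne hr' hk) h0]
      · have hTS : OddStep D r' S := sr'
        rcases Nat.eq_zero_or_pos (sm r' T) with h2 | h2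
        · rw [cj_xGL_zero hsm hr'n R.top.t_lt (hTS T R.top.mem).2.1 h2, R.top.co_xGL R.top.mem,
            if_pos rfl]
        · obtain ⟨m, hm⟩ : ∃ m, sm r' T = m + 1 := ⟨sm r' T - 1, by omega⟩
          have hmS := sum_mem hsm hr'n hTS R.top.mem hm
          rw [cj_xGL_succ hsm hr'n R.top.t_lt (hTS T R.top.mem).2.1 hm,
            R.top.co_mul (C.xGL_mem_Ucl R.top.mem _) (C.xGL_mem_Ucl hmS _), R.top.co_xGL R.top.mem,
            if_pos rfl, R.top.co_xGL hmS,
            if_neg (fun e : m = T => nr' T R.top.mem (by rw [hm, e])), add_zero]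
  obtain ⟨K1, hK1, e1, c1⟩ := hK t d R.topt.mem (W.σ a) (Or.inl ⟨R.e13, R.e23, rfl⟩)
  obtain ⟨K2, hK2, e2', c2⟩ := hK t' (W.σ d) ht' a (Or.inr ⟨R.e14, R.e24, rfl⟩)
  -- the square
  have hXYw : g = X * Y * w := by rw [hgw, hX, hY]; group
  have hsqXY : X * Y * (X * Y) = cj X Y * Y := by
    rw [cj_apply, inv_eq_of_mul_eq_one_right hX2]
    group
  have hcjY : cj X Y * Y = C.xGL t d * K1 * (C.xGL t' (W.σ d) * K2) * Y := by
    rw [hY, map_mul, e1, e2']
  have hK1' : C.xGL t d * K1 * (C.xGL t' (W.σ d) * K2) * Y =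
      C.xGL t d * C.xGL t' (W.σ d) * (cj (C.xGL t' (W.σ d)) K1 * K2) * Y := by
    rw [cj_apply]; group
  have hprod : X * Y * (X * Y) = cj Y (cj (C.xGL t' (W.σ d)) K1 * K2) := by
    rw [hsqXY, hcjY, hK1', ← hY, cj_apply Y,
      inv_eq_of_mul_eq_one_right hY2]
  have hK12 : cj (C.xGL t' (W.σ d)) K1 * K2 ∈ C.Ucl S := mul_mem (cj_mem C ht'n st' _ hK1) hK2
  have hq : cj (X * Y) w ∈ C.Ucl S := by rw [cj_mul]; exact hcY _ (hcX _ hw)
  have hone : X * Y * (X * Y) * (cj (X * Y) w * w) = 1 := by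
    rw [cj_apply, ← hsq, hXYw]; group
  have hco : co C S T (X * Y * (X * Y) * (cj (X * Y) w * w)) = 0 := by rw [hone, R.top.co_one]
  rw [hprod, R.top.co_mul (hcY _ hK12) (mul_mem hq hw), R.top.co_mul hq hw, cj_mul X Y,
    zero_co htn ht'n st st' nt nt' _ _ _ (hcX _ hw), zero_co hrn hr'n sr sr' nr nr' _ _ _ hw,
    CharTwo.add_self_eq_zero, add_zero, zero_co htn ht'n st st' nt nt' _ _ _ hK12,
    R.top.co_mul (cj_mem C ht'n st' _ hK1) hK2, c2] at hco
  have h5 : co C S T (cj (C.xGL t' (W.σ d)) K1) = co C S T K1 := by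
    have := zero_co ht'n ht'n st' st' nt' nt' (W.σ d) 0 K1 hK1
    rwa [C.xGL_zero, mul_one] at this
  rw [h5, c1] at hco
  exact hco

/-- Killing a pair by a fixed root, the parameter being fixed by the relation of the involution. -/
theorem good_kill_rel (hsm : Sums D sm) (K : KillOK W sm P P2 M M2 s r t)
    (child : Good W Tgt ((P2 \ {t}) \ {W.root t}) M2)
    (hs : W.root s = s) {T : ℕ} (R : RelOK W sm P r t T)
    (h : ∀ u ∈ P, sm s u = t + 1 ↔ u = r) :
    Good W Tgt P M := by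
  refine good_kill_core hsm K child fun g hG hsq hg hr' => ?_
  have ha : co C P r g ≠ 0 := K.topr.co_ne hg hr'
  have hd : co C P2 t g = co C P t g := R.topt.co_mono K.top2 K.sub hg
  have hrel := relation hsm K.stable K.topr R hG hsq hg
  refine ⟨co C P2 t g / co C P r g, fun _ => ?_, ?_⟩
  · rw [hd, map_div₀, div_eq_div_iff (by simpa using ha) ha]
    have := CharTwo.add_eq_zero.1 hrel
    rw [mul_comm (W.σ (co C P t g)), ← this, mul_comm]
  · have hpart : ∀ u, ∀ c : F,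
        coef sm s (W.root s) t u c (second W s c) = if sm s u = t + 1 then c else 0 := by
      intro u c
      simp [coef, second, hs]
    rw [shift_one hsm K _ _ (fun u hu hur => by
      rw [hpart u, if_neg (fun hh => hur ((h u hu).1 hh))]) hg, hpart r,
      if_pos ((h r K.topr.mem).2 rfl), div_mul_cancel₀ _ ha]

/-- A step showing that no such involution exists in the ambient group. -/
theorem good_contra (h : F4Invol.Good C (∅ : Set (GL D.Idx F)) P M) :
    Good W Tgt P M := fun g hG h1 h2 hg hM => by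
  obtain ⟨x, -, hx⟩ := h g (W.le hG) h1 h2 hg hM
  exact absurd hx (Set.notMem_empty _)

/-- Change of frame by an element of the group. -/
theorem good_move {n : GL D.Idx F} (hn : n ∈ W.G) (p : ℕ → ℕ)
    (hp : ∀ r, r < D.nroots → ∀ x : F, ∃ u, n * C.xGL r x * n⁻¹ = C.xGL (p r) u)
    (hp' : ∀ r, r < D.nroots → ∀ x : F, ∃ u, n⁻¹ * C.xGL (p r) x * n = C.xGL r u)
    (hP : ∀ u ∈ P, u < D.nroots) (child : Good W Tgt (p '' P) (p '' M)) :
    Good W Tgt P M := by
  intro g hG h1 h2 hg hM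
  have hle : ∀ S : Set ℕ, (∀ r ∈ S, r < D.nroots) →
      C.Ucl S ≤ (C.Ucl (p '' S)).comap (MulAut.conj n).toMonoidHom := by
    intro S hS
    refine C.Ucl_le fun r hr x => ?_
    show n * C.xGL r x * n⁻¹ ∈ C.Ucl (p '' S)
    obtain ⟨u, hu⟩ := hp r (hS r hr) x
    rw [hu]
    exact C.xGL_mem_Ucl (S := p '' S) ⟨r, hr, rfl⟩ u
  refine child.conj hG hn h1 h2 (hle P hP hg) ?_
  rintro _ ⟨k, hk, rfl⟩ hmem
  refine hM k hk ?_
  have hge : C.Ucl (p '' P \ {p k}) ≤ (C.Ucl (P \ {k})).comap (MulAut.conj n⁻¹).toMonoidHom := by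
    refine C.Ucl_le ?_
    rintro _ ⟨⟨r, hr, rfl⟩, hne⟩ x
    show n⁻¹ * C.xGL (p r) x * n⁻¹⁻¹ ∈ C.Ucl (P \ {k})
    obtain ⟨u, hu⟩ := hp' r (hP r hr) x
    rw [inv_inv, hu]
    exact C.xGL_mem_Ucl (show r ∈ P \ {k} from ⟨hr, fun e : r = k => hne (by rw [e]; rfl)⟩) u
  simpa [mul_assoc] using hge hmem

end CfsgLib.InvolTwist
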